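/-
helper61: module 2F4-[HFIX]: the diagonal elements of F₄(K) fixed by helper91's twisting automorphism `f4Sigma`
(`|K| = 2^(2m+1)`, `θ = 2^m`): they are the elements `h_{p₁}(d^θ) h_{p₂}(c^θ) h_{p₃}(c) h_{p₄}(d)`, `c, d ∈ Kˣ`, and there
are `(q - 1)²` of them. Torus parametrisation of helper18 (`torusHom`), injective for type F₄.
-/
import Cfsg.Agent.Lib.Helper91.F4Sig
import Cfsg.Agent.Lib.Helper18.TorusHom

set_option autoImplicit false
set_option linter.unusedSectionVars false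

namespace Cfsg.Agent.Lib.Helper61.ReeF4

open Cfsg.Lie Cfsg.Agent.Lib.Helper18 Cfsg.Agent.Lib.Helper91.ReeF4 Cfsg.Agent.Lib.Helper91.SigAbs

universe u

section Torus

variable {K : Type u} [Field K]

/-- The quadruple `(a, b, c, d)` as a function on the fundamental roots `p₁, p₂, p₃, p₄`. -/
def vec4 (a b c d : Kˣ) : Fin chevF4.rank → Kˣ := fun i =>
  if i.1 = 0 then a else if i.1 = 1 then b else if i.1 = 2 then c else d

theorem eq_vec4 (c : Fin chevF4.rank → Kˣ) :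
    c = vec4 (c ⟨0, by decide⟩) (c ⟨1, by decide⟩) (c ⟨2, by decide⟩) (c ⟨3, by decide⟩) := by
  funext i
  obtain ⟨i, hi⟩ := i
  change i < 4 at hi
  interval_cases i <;> rfl

theorem vec4_mul (a b c d a' b' c' d' : Kˣ) :
    vec4 (a * a') (b * b') (c * c') (d * d') = vec4 a b c d * vec4 a' b' c' d' := by
  funext i
  obtain ⟨i, hi⟩ := i
  change i < 4 at hi
  interval_cases i <;> rfl

theorem vec4_one : vec4 (1 : Kˣ) 1 1 1 = 1 := by
  funext i
  obtain ⟨i, hi⟩ := i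
  change i < 4 at hi
  interval_cases i <;> rfl

theorem prod_four (c : Fin 4 → Kˣ) (f : ℕ → ℤ) :
    ∏ i : Fin 4, c i ^ f i.1 = c 0 ^ f 0 * c 1 ^ f 1 * c 2 ^ f 2 * c 3 ^ f 3 :=
  Fin.prod_univ_four _

theorem cartan_vals : (chevF4.cartan 0 0 = 0 ∧ chevF4.cartan 1 0 = 0 ∧ chevF4.cartan 2 0 = 0 ∧ chevF4.cartan 3 0 = -1) ∧
    (chevF4.cartan 0 1 = 0 ∧ chevF4.cartan 1 1 = 0 ∧ chevF4.cartan 2 1 = -1 ∧ chevF4.cartan 3 1 = 1) ∧
    (chevF4.cartan 0 3 = -1 ∧ chevF4.cartan 1 3 = 0 ∧ chevF4.cartan 2 3 = 0 ∧ chevF4.cartan 3 3 = 0) ∧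
    (chevF4.cartan 0 7 = 1 ∧ chevF4.cartan 1 7 = -1 ∧ chevF4.cartan 2 7 = 0 ∧ chevF4.cartan 3 7 = 0) := by
  decide

/-- The torus parametrisation is injective in type F₄. -/
theorem torusHom_injective : Function.Injective (torusHom chevF4 K) := by
  rw [injective_iff_map_eq_one]
  intro c hc
  have h := (mem_ker_torusHom chevF4 c).mp (MonoidHom.mem_ker.mpr hc)
  have h0 := h ⟨0, by decide⟩
  have h1 := h ⟨1, by decide⟩
  have h3 := h ⟨3, by decide⟩
  have h7 := h ⟨7, by decide⟩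
  unfold chiU at h0 h1 h3 h7
  obtain ⟨⟨a1, a2, a3, a4⟩, ⟨b1, b2, b3, b4⟩, ⟨c1, c2, c3, c4⟩, ⟨d1, d2, d3, d4⟩⟩ := cartan_vals
  have h0' := (prod_four c (fun i => chevF4.cartan i 0)).symm.trans h0
  have h1' := (prod_four c (fun i => chevF4.cartan i 1)).symm.trans h1
  have h3' := (prod_four c (fun i => chevF4.cartan i 3)).symm.trans h3
  have h7' := (prod_four c (fun i => chevF4.cartan i 7)).symm.trans h7
  simp only [a1, a2, a3, a4, b1, b2, b3, b4, c1, c2, c3, c4, d1, d2, d3, d4,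
    zpow_zero, zpow_one, zpow_neg, one_mul, mul_one] at h0' h1' h3' h7'
  have e3 : c (3 : Fin 4) = 1 := inv_eq_one.mp h0'
  have e2 : c (2 : Fin 4) = 1 := by
    rw [e3, mul_one] at h1'
    exact inv_eq_one.mp h1'
  have e0 : c (0 : Fin 4) = 1 := inv_eq_one.mp h3'
  have e1 : c (1 : Fin 4) = 1 := by
    rw [e0, one_mul] at h7'
    exact inv_eq_one.mp h7'
  funext i
  have hi : ∀ j : Fin 4, c j = 1 := by
    intro j
    fin_cases j
    · exact e0
    · exact e1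
    · exact e2
    · exact e3
  exact hi i

/-- The torus element `h_{p₁}(a) h_{p₂}(b) h_{p₃}(c) h_{p₄}(d)`. -/
noncomputable def tor4 (a b c d : Kˣ) : GL chevF4.Idx K := torusHom chevF4 K (vec4 a b c d)

theorem tor4_injective {a b c d a' b' c' d' : Kˣ} (h : tor4 a b c d = tor4 a' b' c' d') :
    a = a' ∧ b = b' ∧ c = c' ∧ d = d' := by
  have h1 := torusHom_injective h
  exact ⟨congrFun h1 ⟨0, by decide⟩, congrFun h1 ⟨1, by decide⟩, congrFun h1 ⟨2, by decide⟩,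
    congrFun h1 ⟨3, by decide⟩⟩

theorem tor4_mul (a b c d a' b' c' d' : Kˣ) :
    tor4 (a * a') (b * b') (c * c') (d * d') = tor4 a b c d * tor4 a' b' c' d' := by
  unfold tor4
  rw [vec4_mul, map_mul]

theorem tor4_one : tor4 (1 : Kˣ) 1 1 1 = 1 := by
  unfold tor4
  rw [vec4_one, map_one]

theorem hMat_diag (i : ℕ) (hi : i < 4) (c : K) (hc : c ≠ 0) :
    chevF4.hMat K (chevF4.simple i) c
      = Matrix.diagonal (Sum.elim (fun _ => (1 : K)) (fun s : Fin chevF4.nroots => c ^ (chevF4.cartan i s))) :=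
  Cfsg.Agent.S1033.result chevF4 hD4 i hi c hc

/-- `tor4 a b c d = h_{p₁}(a) h_{p₂}(b) h_{p₃}(c) h_{p₄}(d)` as a word. -/
theorem tor4_eq_wordG (a b c d : Kˣ) :
    tor4 a b c d = wordG hD4 (chevF4.hWord 33 (a : K) ++ (chevF4.hWord 27 (b : K) ++ (chevF4.hWord 25 (c : K)
      ++ chevF4.hWord 24 (d : K)))) := by
  apply Units.ext
  unfold tor4
  rw [coe_torusHom, coe_wordG]
  have h := wordMat_torusWord chevF4 (fun i hi c hc => hMat_diag i hi c hc)
    (extC chevF4.rank (vec4 a b c d)) (fun i _ => extC_ne_zero _ _ i)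
  have e : torusWord chevF4 (extC chevF4.rank (vec4 a b c d))
      = chevF4.hWord 33 (a : K) ++ (chevF4.hWord 27 (b : K) ++ (chevF4.hWord 25 (c : K)
        ++ chevF4.hWord 24 (d : K))) := by
    unfold torusWord
    show (List.range 4).flatMap _ = _
    have e0 : extC chevF4.rank (vec4 a b c d) 0 = (a : K) := by rw [extC_of_lt _ _ 0 (by decide)]; rfl
    have e1 : extC chevF4.rank (vec4 a b c d) 1 = (b : K) := by rw [extC_of_lt _ _ 1 (by decide)]; rfl
    have e2 : extC chevF4.rank (vec4 a b c d) 2 = (c : K) := by rw [extC_of_lt _ _ 2 (by decide)]; rfl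
    have e3 : extC chevF4.rank (vec4 a b c d) 3 = (d : K) := by rw [extC_of_lt _ _ 3 (by decide)]; rfl
    simp only [List.range_succ, List.range_zero, List.nil_append, List.flatMap_cons, List.flatMap_nil,
      List.append_nil, List.cons_append, e0, e1, e2, e3]
    rfl
  rw [← e, h]

/-- The same element with the factors in the opposite order. -/
theorem tor4_eq_wordG' (a b c d : Kˣ) :
    tor4 a b c d = wordG hD4 (chevF4.hWord 24 (d : K) ++ (chevF4.hWord 25 (c : K) ++ (chevF4.hWord 27 (b : K)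
      ++ chevF4.hWord 33 (a : K)))) := by
  rw [tor4_eq_wordG]
  apply Units.ext
  rw [coe_wordG, coe_wordG]
  simp only [wordMat_append]
  have h33 := hMat_diag 0 (by norm_num) (a : K) a.ne_zero
  have h27 := hMat_diag 1 (by norm_num) (b : K) b.ne_zero
  have h25 := hMat_diag 2 (by norm_num) (c : K) c.ne_zero
  have h24 := hMat_diag 3 (by norm_num) (d : K) d.ne_zero
  have s0 : chevF4.simple 0 = 33 := rfl
  have s1 : chevF4.simple 1 = 27 := rfl
  have s2 : chevF4.simple 2 = 25 := rfl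
  have s3 : chevF4.simple 3 = 24 := rfl
  rw [s0] at h33
  rw [s1] at h27
  rw [s2] at h25
  rw [s3] at h24
  unfold ChevalleyDatum.hMat at h33 h27 h25 h24
  rw [h33, h27, h25, h24]
  simp only [Matrix.diagonal_mul_diagonal]
  congr 1
  funext j
  ring

theorem mem_diag_iff (g : GL chevF4.Idx K) :
    g ∈ chevF4.diagonalSubgroup K ↔ ∃ a b c d : Kˣ, g = tor4 a b c d := by
  rw [← range_torusHom chevF4 hD4]
  constructor
  · rintro ⟨c, rfl⟩
    exact ⟨c ⟨0, by decide⟩, c ⟨1, by decide⟩, c ⟨2, by decide⟩, c ⟨3, by decide⟩, by unfold tor4; rw [← eq_vec4]⟩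
  · rintro ⟨a, b, c, d, rfl⟩
    exact ⟨vec4 a b c d, rfl⟩

theorem torWord_lt (a b c d : K) : ∀ p ∈ chevF4.hWord 33 a ++ (chevF4.hWord 27 b ++ (chevF4.hWord 25 c
    ++ chevF4.hWord 24 d)), p.1 < chevF4.nroots := by
  intro p hp
  simp only [List.mem_append] at hp
  rcases hp with hp | hp | hp | hp
  · exact SigData.hWord_lt hD4 33 (by decide) a p hp
  · exact SigData.hWord_lt hD4 27 (by decide) b p hp
  · exact SigData.hWord_lt hD4 25 (by decide) c p hp
  · exact SigData.hWord_lt hD4 24 (by decide) d p hp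

theorem tor4_mem_group (a b c d : Kˣ) : tor4 a b c d ∈ chevF4.group K := by
  rw [tor4_eq_wordG]
  exact SigData.wordG_mem_group _

end Torus

section Sigma

variable {K : Type u} [Field K] [Fintype K] [CharP K 2] (m : ℕ)

/-- `σ(h_{p₁}(a) h_{p₂}(b) h_{p₃}(c) h_{p₄}(d)) = h_{p₁}(d^θ) h_{p₂}(c^θ) h_{p₃}(b^{2θ}) h_{p₄}(a^{2θ})`. -/
theorem app_tor4 (a b c d : Kˣ) :
    (f4SigData K m).app (tor4 a b c d) (tor4_mem_group a b c d)
      = tor4 (d ^ 2 ^ m) (c ^ 2 ^ m) (b ^ (2 * 2 ^ m)) (a ^ (2 * 2 ^ m)) := by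
  rw [(f4SigData K m).app_congr _ _ (tor4_eq_wordG a b c d) _ (SigData.wordG_mem_group _),
    (f4SigData K m).app_wordG _ (torWord_lt _ _ _ _), tor4_eq_wordG']
  simp only [SigData.mapWord_append]
  rw [(f4SigData K m).mapWord_hWord 33 (by decide), (f4SigData K m).mapWord_hWord 27 (by decide),
    (f4SigData K m).mapWord_hWord 25 (by decide), (f4SigData K m).mapWord_hWord 24 (by decide)]
  have r33 : (f4SigData K m).ρ 33 = 24 := by show f4rho 33 = 24; decide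
  have r27 : (f4SigData K m).ρ 27 = 25 := by show f4rho 27 = 25; decide
  have r25 : (f4SigData K m).ρ 25 = 27 := by show f4rho 25 = 27; decide
  have r24 : (f4SigData K m).ρ 24 = 33 := by show f4rho 24 = 33; decide
  have l33 : (f4SigData K m).ε 33 = 2 * 2 ^ m := by show f4lam 33 * 2 ^ m = _; rfl
  have l27 : (f4SigData K m).ε 27 = 2 * 2 ^ m := by show f4lam 27 * 2 ^ m = _; rfl
  have l25 : (f4SigData K m).ε 25 = 2 ^ m := by show f4lam 25 * 2 ^ m = _; rw [show f4lam 25 = 1 from rfl, one_mul]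
  have l24 : (f4SigData K m).ε 24 = 2 ^ m := by show f4lam 24 * 2 ^ m = _; rw [show f4lam 24 = 1 from rfl, one_mul]
  rw [r33, r27, r25, r24, l33, l27, l25, l24]
  simp only [Units.val_pow_eq_pow_val]

/-- A torus element is fixed by `σ` iff its parameters are `(d^θ, c^θ, c, d)`. -/
theorem fixed_tor4_iff (hq : ∀ t : K, t ^ (2 * 2 ^ m * 2 ^ m) = t) (a b c d : Kˣ) :
    (f4SigData K m).app (tor4 a b c d) (tor4_mem_group a b c d) = tor4 a b c d ↔ a = d ^ 2 ^ m ∧ b = c ^ 2 ^ m := by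
  rw [app_tor4]
  have hu : ∀ x : Kˣ, (x ^ 2 ^ m) ^ (2 * 2 ^ m) = x := by
    intro x
    apply Units.ext
    rw [← pow_mul, Units.val_pow_eq_pow_val]
    have := hq (x : K)
    rw [← this]
    congr 1
    ring
  constructor
  · intro h
    obtain ⟨h1, h2, -, -⟩ := tor4_injective h
    exact ⟨h1.symm, h2.symm⟩
  · rintro ⟨h1, h2⟩
    rw [h1, h2, hu, hu]

/-- `f4H θ c d = h_{p₁}(d^θ) h_{p₂}(c^θ) h_{p₃}(c) h_{p₄}(d)`. -/
noncomputable def f4H (th : ℕ) (c d : Kˣ) : GL chevF4.Idx K := tor4 (d ^ th) (c ^ th) c d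

omit [Fintype K] [CharP K 2] in
theorem coe_f4H (th : ℕ) (c d : Kˣ) : ((f4H th c d : GL chevF4.Idx K) : Matrix chevF4.Idx chevF4.Idx K)
    = chevF4.hMat K 33 ((d : K) ^ th) * (chevF4.hMat K 27 ((c : K) ^ th) * (chevF4.hMat K 25 (c : K)
        * chevF4.hMat K 24 (d : K))) := by
  unfold f4H
  rw [tor4_eq_wordG, coe_wordG]
  simp only [wordMat_append, Units.val_pow_eq_pow_val]
  rfl

omit [Fintype K] [CharP K 2] in
theorem f4H_mul (th : ℕ) (c d c' d' : Kˣ) : f4H th (c * c') (d * d') = f4H th c d * f4H th c' d' := by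
  unfold f4H
  rw [mul_pow, mul_pow, tor4_mul]

omit [Fintype K] [CharP K 2] in
theorem f4H_one (th : ℕ) : f4H th (1 : Kˣ) 1 = 1 := by
  unfold f4H
  rw [one_pow, tor4_one]

omit [Fintype K] [CharP K 2] in
theorem f4H_injective (th : ℕ) {c d c' d' : Kˣ} (h : f4H th c d = f4H th c' d') : c = c' ∧ d = d' := by
  obtain ⟨-, -, h3, h4⟩ := tor4_injective h
  exact ⟨h3, h4⟩

omit [Fintype K] [CharP K 2] in
theorem f4H_mem_H (th : ℕ) (c d : Kˣ) : f4H th c d ∈ chevF4.diagonalSubgroup K :=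
  (mem_diag_iff _).mpr ⟨_, _, _, _, rfl⟩

omit [Fintype K] [CharP K 2] in
theorem f4H_mem_group (th : ℕ) (c d : Kˣ) : f4H th c d ∈ chevF4.group K := tor4_mem_group _ _ _ _

theorem f4H_mem_F (hq : ∀ t : K, t ^ (2 * 2 ^ m * 2 ^ m) = t) (c d : Kˣ) :
    f4H (2 ^ m) c d ∈ (f4Fix K m).map (chevF4.group K).subtype := by
  rw [mem_f4FixGL]
  exact ⟨f4H_mem_group _ c d, (fixed_tor4_iff m hq _ _ c d).mpr ⟨rfl, rfl⟩⟩

theorem f4H_surj (hq : ∀ t : K, t ^ (2 * 2 ^ m * 2 ^ m) = t) (h : GL chevF4.Idx K)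
    (hH : h ∈ chevF4.diagonalSubgroup K) (hF : h ∈ (f4Fix K m).map (chevF4.group K).subtype) :
    ∃ c d : Kˣ, h = f4H (2 ^ m) c d := by
  obtain ⟨a, b, c, d, rfl⟩ := (mem_diag_iff h).mp hH
  obtain ⟨hx, hfix⟩ := (mem_f4FixGL K m _).mp hF
  obtain ⟨h1, h2⟩ := (fixed_tor4_iff m hq a b c d).mp hfix
  exact ⟨c, d, by unfold f4H; rw [h1, h2]⟩

/-- `|H ∩ Fix(σ)| = (q - 1)²`. -/
theorem card_H_inf_F (hK : Fintype.card K = 2 ^ (2 * m + 1)) :
    Nat.card ↥(chevF4.diagonalSubgroup K ⊓ (f4Fix K m).map (chevF4.group K).subtype) = (2 ^ (2 * m + 1) - 1) ^ 2 := by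
  have hq : ∀ t : K, t ^ (2 * 2 ^ m * 2 ^ m) = t := by
    intro t
    have e : 2 * 2 ^ m * 2 ^ m = Fintype.card K := by rw [hK]; ring
    rw [e, FiniteField.pow_card]
  let φ : Kˣ × Kˣ → ↥(chevF4.diagonalSubgroup K ⊓ (f4Fix K m).map (chevF4.group K).subtype) := fun p =>
    ⟨f4H (2 ^ m) p.1 p.2, ⟨f4H_mem_H _ _ _, f4H_mem_F m hq _ _⟩⟩
  have hφ : Function.Bijective φ := by
    constructor
    · rintro ⟨c, d⟩ ⟨c', d'⟩ h
      obtain ⟨h1, h2⟩ := f4H_injective _ (congrArg Subtype.val h)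
      exact Prod.ext h1 h2
    · rintro ⟨g, hg1, hg2⟩
      obtain ⟨c, d, rfl⟩ := f4H_surj m hq g hg1 hg2
      exact ⟨(c, d), rfl⟩
  rw [← Nat.card_congr (Equiv.ofBijective φ hφ), Nat.card_prod, Nat.card_units, Nat.card_eq_fintype_card, hK, pow_two]

/-- `H ∩ ²F₄ ≤ H ∩ Fix(σ)`. -/
theorem diag_twisted_le (hq : ∀ t : K, t ^ (2 * 2 ^ m * 2 ^ m) = t) :
    chevF4.diagonalSubgroup K ⊓ twistedF4 K (2 ^ m) ≤
      chevF4.diagonalSubgroup K ⊓ (f4Fix K m).map (chevF4.group K).subtype :=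
  inf_le_inf le_rfl (twistedF4_le_f4Fix K m hq)

end Sigma

end Cfsg.Agent.Lib.Helper61.ReeF4
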