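/-
helper61: module REE-[HFIX] of helper19's ²G₂ tower: the diagonal elements `reeH θ c = h_a(c^θ) h_b(c)` of G₂(K); for
`θ = 3^m` they are exactly the diagonal elements fixed by helper91's twisting automorphism `reeSigma`.
(Adapter on Lib/Helper61/ChevJ/G2ReeH.)
-/
import Cfsg.Agent.Lib.Helper18.Tw10
import Cfsg.Agent.Lib.Helper91.ReeFixed
import Cfsg.Agent.Lib.Helper61.ChevJ.G2ReeH

set_option autoImplicit false
set_option linter.unusedSectionVars false

namespace Cfsg.Agent.Lib.Helper61.Ree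

open Cfsg.Lie Cfsg.Agent.Lib.Helper18 Cfsg.Agent.Lib.Helper91.Ree Cfsg.Agent.S1099
  Cfsg.Agent.Lib.Helper61.ChevJ.G2ReeH

universe u

section General

variable {K : Type u} [Field K]

/-- `reeH θ c = h_a(c^θ) h_b(c)` (`a = 7` short, `b = 6` long). -/
noncomputable def reeH (th : ℕ) (c : Kˣ) : GL chevG2.Idx K := tor (c ^ th) c

theorem coe_reeH (th : ℕ) (c : Kˣ) : ((reeH th c : GL chevG2.Idx K) : Matrix chevG2.Idx chevG2.Idx K)
    = chevG2.hMat K 7 ((c : K) ^ th) * chevG2.hMat K 6 (c : K) := by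
  unfold reeH
  rw [coe_tor, Units.val_pow_eq_pow_val]

theorem reeH_mul (th : ℕ) (c d : Kˣ) : reeH th (c * d) = reeH th c * reeH th d := by
  unfold reeH
  rw [mul_pow, tor_mul]

theorem reeH_one (th : ℕ) : reeH th (1 : Kˣ) = 1 := by
  unfold reeH
  rw [one_pow, tor_one]

theorem reeH_inv (th : ℕ) (c : Kˣ) : reeH th c⁻¹ = (reeH th c)⁻¹ := by
  rw [eq_inv_iff_mul_eq_one, ← reeH_mul, inv_mul_cancel, reeH_one]

/-- `c ↦ reeH θ c` as a homomorphism. -/
noncomputable def reeHHom (th : ℕ) : Kˣ →* GL chevG2.Idx K where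
  toFun := reeH th
  map_one' := reeH_one th
  map_mul' := reeH_mul th

theorem reeH_pow (th : ℕ) (c : Kˣ) (n : ℕ) : reeH th (c ^ n) = (reeH th c) ^ n :=
  map_pow (reeHHom th) c n

theorem reeH_injective (th : ℕ) : Function.Injective (reeH (K := K) th) := fun _ _ h => (tor_injective h).2

theorem reeH_mem_H (th : ℕ) (c : Kˣ) : reeH th c ∈ chevG2.diagonalSubgroup K := by
  rw [← range_torusHom chevG2 hD2]
  exact ⟨_, rfl⟩

theorem reeH_mem_group (th : ℕ) (c : Kˣ) : reeH th c ∈ chevG2.group K := tor_mem_group _ _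

end General

variable (K : Type u) [Field K] [Fintype K] [CharP K 3] (m : ℕ)

variable {K} in
theorem reeH_mem_F (hq : ∀ t : K, t ^ (3 * 3 ^ m * 3 ^ m) = t) (c : Kˣ) :
    reeH (3 ^ m) c ∈ (reeFix K m).map (chevG2.group K).subtype :=
  ((mem_Hsig_iff m hq _).mpr ⟨c, rfl⟩).2

variable {K} in
theorem reeH_surj (hq : ∀ t : K, t ^ (3 * 3 ^ m * 3 ^ m) = t) (h : GL chevG2.Idx K)
    (hH : h ∈ chevG2.diagonalSubgroup K) (hF : h ∈ (reeFix K m).map (chevG2.group K).subtype) :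
    ∃ c : Kˣ, h = reeH (3 ^ m) c :=
  (mem_Hsig_iff m hq h).mp ⟨hH, hF⟩

variable {K} in
/-- `reeH (3^m) (-1) = h_a(-1) h_b(-1)`, the element of helper20's certificate. -/
theorem coe_reeH_neg_one : ((reeH (3 ^ m) (-1 : Kˣ) : GL chevG2.Idx K) : Matrix chevG2.Idx chevG2.Idx K)
    = chevG2.hMat K 7 (-1) * chevG2.hMat K 6 (-1) := by
  rw [coe_reeH, Units.val_neg, Units.val_one, (odd_three_pow m).neg_one_pow]

variable {K} in
/-- `|H ∩ Fix(σ)| = q - 1`. -/
theorem card_H_inf_F (hK : Fintype.card K = 3 ^ (2 * m + 1)) :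
    Nat.card ↥(chevG2.diagonalSubgroup K ⊓ (reeFix K m).map (chevG2.group K).subtype) = 3 ^ (2 * m + 1) - 1 :=
  card_Hsig hK

variable {K} in
/-- Every unit is a square or minus a square; so a subgroup containing the squares of `H ∩ Fix(σ)` and `reeH (-1)`
contains `H ∩ Fix(σ)`. -/
theorem H_inf_F_le (hK : Fintype.card K = 3 ^ (2 * m + 1)) (S : Subgroup (GL chevG2.Idx K))
    (hsq : ∀ c : Kˣ, (reeH (3 ^ m) c) ^ 2 ∈ S) (h0S : reeH (3 ^ m) (-1 : Kˣ) ∈ S) :
    chevG2.diagonalSubgroup K ⊓ (reeFix K m).map (chevG2.group K).subtype ≤ S := by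
  have hq : ∀ t : K, t ^ (3 * 3 ^ m * 3 ^ m) = t := by
    intro t
    have e : 3 * 3 ^ m * 3 ^ m = Fintype.card K := by rw [hK]; ring
    rw [e, FiniteField.pow_card]
  apply Hsig_le hK S
  · intro g hg
    obtain ⟨c, rfl⟩ := (mem_Hsig_iff m hq g).mp hg
    exact hsq c
  · have e : (h0 : GL chevG2.Idx K) = reeH (3 ^ m) (-1 : Kˣ) := by
      unfold h0 reeH
      rw [(odd_three_pow m).neg_one_pow]
    rw [e]
    exact h0S

end Cfsg.Agent.Lib.Helper61.Ree
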