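/-
helper61: module REE-[HACT] of helper19's ²G₂ tower: the action of the diagonal elements `reeH θ c` on the elements
`reeWordU θ t u v` of `U¹`, and its fixed points.
-/
import Cfsg.Agent.Lib.Helper61.Ree.HFix
import Cfsg.Agent.Lib.Helper61.ChevJ.G2Ree
import Cfsg.Agent.Lib.Helper18.TorusConj

set_option autoImplicit false
set_option linter.unusedSectionVars false
set_option linter.unusedSimpArgs false

namespace Cfsg.Agent.Lib.Helper61.Ree

open Cfsg.Lie Cfsg.Agent.Lib.Helper18 Cfsg.Agent.Lib.Helper91.Ree Cfsg.Agent.S1099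
  Cfsg.Agent.Lib.Helper61.ChevJ.G2ReeH Cfsg.Agent.Lib.Helper61.ChevJ.G2Char3

universe u

section Conj

variable {K : Type u} [Field K]

theorem torusFun_vec2 (x y : Kˣ) (s : ℕ) (hs : s < chevG2.nroots) :
    torusFun chevG2 (extC chevG2.rank (vec2 x y)) (Sum.inr ⟨s, hs⟩)
      = (x : K) ^ chevG2.cartan 0 s * (y : K) ^ chevG2.cartan 1 s := by
  have e0 : extC chevG2.rank (vec2 x y) 0 = (x : K) := by rw [extC_of_lt _ _ 0 (by decide)]; rfl
  have e1 : extC chevG2.rank (vec2 x y) 1 = (y : K) := by rw [extC_of_lt _ _ 1 (by decide)]; rfl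
  show ((List.range 2).map fun i => extC chevG2.rank (vec2 x y) i ^ chevG2.cartan i s).prod = _
  simp only [List.range_succ, List.range_zero, List.nil_append, List.map_cons, List.map_nil, List.cons_append,
    List.prod_cons, List.prod_nil, mul_one, e0, e1]

/-- Conjugation of a root element by a torus element. -/
theorem tor_conj_xG (x y : Kˣ) (s : ℕ) (hs : s < 12) (t : K) :
    tor x y * xG hD2 s t * (tor x y)⁻¹
      = xG hD2 s ((x : K) ^ chevG2.cartan 0 s * (y : K) ^ chevG2.cartan 1 s * t) := by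
  have hc : ∀ i < chevG2.rank, extC chevG2.rank (vec2 x y) i ≠ 0 := fun i _ => extC_ne_zero _ _ i
  have h1 : tor x y * xG hD2 s t
      = xG hD2 s ((x : K) ^ chevG2.cartan 0 s * (y : K) ^ chevG2.cartan 1 s * t) * tor x y := by
    apply Units.ext
    unfold tor
    rw [Units.val_mul, Units.val_mul, coe_xG, coe_xG, coe_torusHom, torus_mul_x chevG2 hD2 _ hc s hs t,
      torusFun_vec2 x y s hs]
  rw [h1, mul_assoc, mul_inv_cancel, mul_one]

theorem cartan_tab : chevG2.cartan 0 6 = -3 ∧ chevG2.cartan 1 6 = 2 ∧ chevG2.cartan 0 7 = 2 ∧ chevG2.cartan 1 7 = -1 ∧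
    chevG2.cartan 0 8 = -1 ∧ chevG2.cartan 1 8 = 1 ∧ chevG2.cartan 0 9 = 1 ∧ chevG2.cartan 1 9 = 0 ∧
    chevG2.cartan 0 10 = 3 ∧ chevG2.cartan 1 10 = -1 ∧ chevG2.cartan 0 11 = 0 ∧ chevG2.cartan 1 11 = 1 := by
  decide

theorem conj_mul (h a b : GL chevG2.Idx K) : h * (a * b) * h⁻¹ = (h * a * h⁻¹) * (h * b * h⁻¹) := by
  group

/-- Conjugation of an element of `U` in coordinates by a torus element. -/
theorem tor_conj_uu (x y : Kˣ) (a b c d e f : K) :
    tor x y * uu a b c d e f * (tor x y)⁻¹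
      = uu ((x : K) ^ (-3 : ℤ) * (y : K) ^ (2 : ℤ) * a) ((x : K) ^ (2 : ℤ) * (y : K) ^ (-1 : ℤ) * b)
          ((x : K) ^ (-1 : ℤ) * (y : K) ^ (1 : ℤ) * c) ((x : K) ^ (1 : ℤ) * (y : K) ^ (0 : ℤ) * d)
          ((x : K) ^ (3 : ℤ) * (y : K) ^ (-1 : ℤ) * e) ((x : K) ^ (0 : ℤ) * (y : K) ^ (1 : ℤ) * f) := by
  obtain ⟨h1, h2, h3, h4, h5, h6, h7, h8, h9, h10, h11, h12⟩ := cartan_tab
  unfold uu
  rw [conj_mul, conj_mul, conj_mul, conj_mul, conj_mul, tor_conj_xG x y 6 (by norm_num), tor_conj_xG x y 7 (by norm_num),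
    tor_conj_xG x y 8 (by norm_num), tor_conj_xG x y 9 (by norm_num), tor_conj_xG x y 10 (by norm_num),
    tor_conj_xG x y 11 (by norm_num), h1, h2, h3, h4, h5, h6, h7, h8, h9, h10, h11, h12]

end Conj

section Act

variable {K : Type u} [Field K] [Fintype K] [CharP K 3] (m : ℕ)

/-- REE-[HACT]: the action of `reeH (3^m) c` on `U¹`. -/
theorem reeH_conj (hq : ∀ t : K, t ^ (3 * 3 ^ m * 3 ^ m) = t) (c : Kˣ) (t u v : K) :
    reeH (3 ^ m) c * wordG hD2 (reeWordU (3 ^ m) t u v) * (reeH (3 ^ m) c)⁻¹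
      = wordG hD2 (reeWordU (3 ^ m) ((c : K) ^ 2 * ((c : K) ^ (3 * 3 ^ m))⁻¹ * t)
          ((c : K) ^ (3 * 3 ^ m) * (c : K)⁻¹ * u) ((c : K) * v)) := by
  have hY : (c : K) ≠ 0 := c.ne_zero
  have hX : (c : K) ^ 3 ^ m ≠ 0 := pow_ne_zero _ hY
  have e3 : (c : K) ^ (3 * 3 ^ m) = ((c : K) ^ 3 ^ m) ^ 3 := by rw [← pow_mul, mul_comm]
  have hXY : (((c : K) ^ 3 ^ m) ^ 3) ^ 3 ^ m = (c : K) := by
    rw [← pow_mul, ← pow_mul]
    have := hq (c : K)
    rw [← this]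
    congr 1
    ring
  have hsq : ((c : K) ^ 2) ^ 3 ^ m = ((c : K) ^ 3 ^ m) ^ 2 := by rw [← pow_mul, ← pow_mul, mul_comm]
  have hinv : ((((c : K) ^ 3 ^ m) ^ 3)⁻¹) ^ 3 ^ m = (c : K)⁻¹ := by rw [inv_pow, hXY]
  have hci : ((c : K)⁻¹) ^ 3 ^ m = ((c : K) ^ 3 ^ m)⁻¹ := inv_pow _ _
  show tor _ _ * _ * (tor _ _)⁻¹ = _
  rw [wordG_reeWordU, wordG_reeWordU, tor_conj_uu, e3, Units.val_pow_eq_pow_val]
  generalize hXdef : (c : K) ^ 3 ^ m = X at *
  have A1 : ((c : K) ^ 2 * (X ^ 3)⁻¹ * t) ^ 3 ^ m = X ^ 2 * (c : K)⁻¹ * t ^ 3 ^ m := by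
    rw [mul_pow, mul_pow, hsq, hinv]
  have A2 : (X ^ 3 * (c : K)⁻¹ * u) ^ 3 ^ m = (c : K) * X⁻¹ * u ^ 3 ^ m := by
    rw [mul_pow, mul_pow, hXY, hci]
  have A3 : ((c : K) * v) ^ 3 ^ m = X * v ^ 3 ^ m := by
    rw [mul_pow, hXdef]
  rw [A1, A2, A3]
  apply uu_congr
  · simp only [zpow_neg, zpow_natCast, zpow_ofNat, zpow_one, zpow_zero, pow_one]
    ring
  · simp only [zpow_neg, zpow_natCast, zpow_ofNat, zpow_one, zpow_zero, pow_one]
  · simp only [zpow_neg, zpow_natCast, zpow_ofNat, zpow_one, zpow_zero, pow_one]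
    ring
  · simp only [zpow_neg, zpow_natCast, zpow_ofNat, zpow_one, zpow_zero, pow_one, pow_zero, mul_one]
  · simp only [zpow_neg, zpow_natCast, zpow_ofNat, zpow_one, zpow_zero, pow_one]
    field_simp
  · simp only [zpow_neg, zpow_natCast, zpow_ofNat, zpow_one, zpow_zero, pow_one]
    field_simp

/-- If `reeH (3^m) c` centralises a non-trivial element of `U¹` then `c² = 1`. -/
theorem reeH_cent_sq (hq : ∀ t : K, t ^ (3 * 3 ^ m * 3 ^ m) = t) (c : Kˣ) (t u v : K)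
    (hne : t ≠ 0 ∨ u ≠ 0 ∨ v ≠ 0)
    (h : reeH (3 ^ m) c * wordG hD2 (reeWordU (3 ^ m) t u v) * (reeH (3 ^ m) c)⁻¹
      = wordG hD2 (reeWordU (3 ^ m) t u v)) : c ^ 2 = 1 := by
  rw [reeH_conj m hq] at h
  obtain ⟨h1, h2, h3⟩ := reeWordU_inj _ _ _ _ _ _ _ h
  have hY : (c : K) ≠ 0 := c.ne_zero
  have e3 : (c : K) ^ (3 * 3 ^ m) = ((c : K) ^ 3 ^ m) ^ 3 := by rw [← pow_mul, mul_comm]
  have hXY : (((c : K) ^ 3 ^ m) ^ 3) ^ 3 ^ m = (c : K) := by
    rw [← pow_mul, ← pow_mul]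
    have := hq (c : K)
    rw [← this]
    congr 1
    ring
  have hX : (c : K) ^ 3 ^ m ≠ 0 := pow_ne_zero _ hY
  rw [e3] at h1 h2
  generalize hXdef : (c : K) ^ 3 ^ m = X at *
  have key : (c : K) ^ 2 = 1 := by
    rcases hne with ht | hu | hv
    · -- `c² = X³`, hence `c = X²` and `X = 1`
      have a1 : (c : K) ^ 2 * (X ^ 3)⁻¹ = 1 := by
        have := mul_right_cancel₀ ht (h1.trans (one_mul t).symm)
        exact this
      have a2 : (c : K) ^ 2 = X ^ 3 := by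
        field_simp at a1
        exact a1
      have a3 : (c : K) = X ^ 2 := by
        have : ((c : K) ^ 2) ^ 3 ^ m = (X ^ 3) ^ 3 ^ m := by rw [a2]
        rw [hXY, ← pow_mul, mul_comm, pow_mul, hXdef] at this
        exact this.symm
      have a4 : X = 1 := by
        rw [a3] at a2
        have : X ^ 3 * X = X ^ 3 * 1 :=
          calc X ^ 3 * X = (X ^ 2) ^ 2 := by ring
            _ = X ^ 3 := a2
            _ = X ^ 3 * 1 := by ring
        exact mul_left_cancel₀ (pow_ne_zero 3 hX) this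
      rw [a3, a4]
      norm_num
    · -- `X³ = c`, hence `c = X` and `c³ = c`
      have a1 : X ^ 3 * (c : K)⁻¹ = 1 := mul_right_cancel₀ hu (h2.trans (one_mul u).symm)
      have a2 : X ^ 3 = (c : K) := by
        field_simp at a1
        exact a1
      have a3 : (c : K) = X := by
        have : (X ^ 3) ^ 3 ^ m = (c : K) ^ 3 ^ m := by rw [a2]
        rw [hXY, hXdef] at this
        exact this
      rw [← a3] at a2
      have : (c : K) ^ 2 * (c : K) = 1 * (c : K) := by rw [one_mul, ← pow_succ]; exact a2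
      exact mul_right_cancel₀ hY this
    · have a1 : (c : K) = 1 := mul_right_cancel₀ hv (h3.trans (one_mul v).symm)
      rw [a1]
      norm_num
  apply Units.ext
  rw [Units.val_pow_eq_pow_val, key, Units.val_one]

/-- If `reeH (3^m) c` centralises `U¹` then `c = 1`. -/
theorem reeH_cent_all (hq : ∀ t : K, t ^ (3 * 3 ^ m * 3 ^ m) = t) (c : Kˣ)
    (h : ∀ t u v : K, reeH (3 ^ m) c * wordG hD2 (reeWordU (3 ^ m) t u v) * (reeH (3 ^ m) c)⁻¹
      = wordG hD2 (reeWordU (3 ^ m) t u v)) : c = 1 := by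
  have h1 := h 0 0 1
  rw [reeH_conj m hq] at h1
  obtain ⟨-, -, h3⟩ := reeWordU_inj _ _ _ _ _ _ _ h1
  apply Units.ext
  rw [Units.val_one, ← h3, mul_one]

end Act

end Cfsg.Agent.Lib.Helper61.Ree
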