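/-
helper61: module REE-[FIXU] of helper19's ²G₂ tower: an element of `U` fixed by helper91's twisting automorphism
`reeSigma` lies in `²G₂` (bridge from `reeSigma` to the block relation, then S1101's computation `fixed_U`).
-/
import Cfsg.Agent.Lib.Helper18.Tw10
import Cfsg.Agent.Lib.Helper91.ReeFixed
import Cfsg.Agent.Lib.Helper61.ChevJ.G2ReeFix

set_option autoImplicit false
set_option linter.unusedSectionVars false

namespace Cfsg.Agent.Lib.Helper61.Ree

open Cfsg.Lie Cfsg.Agent.Lib.Helper18 Cfsg.Agent.Lib.Helper91.Ree Cfsg.Agent.Lib.Helper91.ExcAut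
  Cfsg.Agent.S1099 Cfsg.Agent.Lib.Helper61.ChevJ.G2ReeFix Cfsg.Agent.Lib.Helper61.ChevJ.G2Char3
  Cfsg.Agent.Lib.Helper69.ChevMap

universe u

variable (K : Type u) [Field K] [Fintype K] [CharP K 3] (m : ℕ)

/-- An element fixed by `reeSigma` lies in the fixed-point subgroup of the block relation. -/
theorem mem_fixSub_of_reeFix (g : GL chevG2.Idx K) (hF : g ∈ (reeFix K m).map (chevG2.group K).subtype) :
    g ∈ fixSub ((iterateFrobeniusEquiv K 3 m : K ≃+* K) : K →+* K) := by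
  obtain ⟨g', hg', rfl⟩ := hF
  have hfix : reeSigma K m g' = g' := hg'
  obtain ⟨y0, hy0, hr⟩ := g2Blocks.exists_rel_left hD2 rel_fund
    ((glMapG chevG2 (iterateFrobeniusEquiv K 3 m) g' : ↥(chevG2.group K)) : GL chevG2.Idx K)
    (glMapG chevG2 (iterateFrobeniusEquiv K 3 m) g').2
  have h1 : g2Alpha K (glMapG chevG2 (iterateFrobeniusEquiv K 3 m) g') = ⟨y0, hy0⟩ :=
    g2Alpha_spec K _ ⟨y0, hy0⟩ hr
  have h2 : g2Alpha K (glMapG chevG2 (iterateFrobeniusEquiv K 3 m) g') = g' := hfix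
  have h3 : y0 = (g' : GL chevG2.Idx K) := by
    rw [h2] at h1
    exact (congrArg Subtype.val h1).symm
  rw [h3] at hr
  rw [mem_fixSub]
  have e : glMap chevG2 ((iterateFrobeniusEquiv K 3 m : K ≃+* K) : K →+* K) ((chevG2.group K).subtype g')
      = ((glMapG chevG2 (iterateFrobeniusEquiv K 3 m) g' : ↥(chevG2.group K)) : GL chevG2.Idx K) := by
    apply Units.ext
    rw [coe_glMap, glMapG_coe, Cfsg.Agent.S1080.glMap_coe]
    rfl
  rw [e]
  exact hr

/-- REE-[FIXU]: `U ∩ Fix(σ) ≤ ²G₂`. -/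
theorem fixU_le (hq : ∀ t : K, t ^ (3 * 3 ^ m * 3 ^ m) = t) (g : GL chevG2.Idx K)
    (hU : g ∈ chevG2.posUnipotent K) (hF : g ∈ (reeFix K m).map (chevG2.group K).subtype) :
    g ∈ twistedG2 K (3 ^ m) := by
  have hf : ∀ x : K, ((iterateFrobeniusEquiv K 3 m : K ≃+* K) : K →+* K) x = x ^ 3 ^ m :=
    fun x => iterateFrobeniusEquiv_def K 3 m x
  have hq' : ∀ x : K, (((iterateFrobeniusEquiv K 3 m : K ≃+* K) : K →+* K)
      (((iterateFrobeniusEquiv K 3 m : K ≃+* K) : K →+* K) x)) ^ 3 = x := by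
    intro x
    rw [hf, hf, ← pow_mul, ← pow_mul]
    have := hq x
    rw [← this]
    congr 1
    ring
  obtain ⟨t, u, v, e⟩ := fixed_U _ (3 ^ m) hf hq' g hU (mem_fixSub_of_reeFix K m g hF)
  rw [e]
  exact wordG_reeWordU_mem_twisted _ t u v

/-- The elements of `U ∩ Fix(σ)` are the elements `reeWordU θ t u v`. -/
theorem fixU_form (hq : ∀ t : K, t ^ (3 * 3 ^ m * 3 ^ m) = t) (g : GL chevG2.Idx K)
    (hU : g ∈ chevG2.posUnipotent K) (hF : g ∈ (reeFix K m).map (chevG2.group K).subtype) :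
    ∃ t u v : K, g = wordG hD2 (reeWordU (3 ^ m) t u v) := by
  have hf : ∀ x : K, ((iterateFrobeniusEquiv K 3 m : K ≃+* K) : K →+* K) x = x ^ 3 ^ m :=
    fun x => iterateFrobeniusEquiv_def K 3 m x
  have hq' : ∀ x : K, (((iterateFrobeniusEquiv K 3 m : K ≃+* K) : K →+* K)
      (((iterateFrobeniusEquiv K 3 m : K ≃+* K) : K →+* K) x)) ^ 3 = x := by
    intro x
    rw [hf, hf, ← pow_mul, ← pow_mul]
    have := hq x
    rw [← this]
    congr 1
    ring
  exact fixed_U _ (3 ^ m) hf hq' g hU (mem_fixSub_of_reeFix K m g hF)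

end Cfsg.Agent.Lib.Helper61.Ree
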