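/-
helper61: the homomorphism `Φ : SL₂(K) → G₂(K)`, `Φ(A) = φ_{a+b}(A^θ) φ_{3a+b}(A)` (`K` of characteristic three, `θ` a power
of the Frobenius map), whose image is the component `PSL₂(K)` of the centraliser of the involution `h₀` of the small
Ree group.  Root numbering of the Chevalley data: `8 = a+b` (short), `10 = 3a+b` (long), opposite roots `3`, `1`.
-/
import Cfsg.Agent.Lib.Helper17.ChevSL2
import Cfsg.Agent.Lib.Helper61.Ree.HAct
import Cfsg.Agent.Lib.Helper61.ChevJ.G2ReeV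
import Cfsg.Agent.Lib.Helper18.HAll
import Cfsg.Agent.Lib.Helper20.ReeH0
import Cfsg.Agent.S1036
import Cfsg.Agent.S1037
import Cfsg.Agent.S1040

set_option autoImplicit false
set_option linter.unusedSectionVars false

namespace Cfsg.Agent.Lib.Helper61.ReeInv

open Cfsg.Lie Cfsg.Agent.Lib.Helper18 Cfsg.Agent.Lib.Helper17.SL2Pres Cfsg.Agent.Lib.Helper17.ChevSL2
open Cfsg.Agent.Lib.Helper19.NatSL2 Cfsg.Agent.Lib.Helper61.ChevJ.G2Short Cfsg.Agent.Lib.Helper61.ChevJ.G2ReeH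
open Cfsg.Agent.Lib.Helper61.Ree Cfsg.Agent.S1099
open scoped MatrixGroups

universe u

section Root

variable {K : Type u} [Field K]

/-- The root homomorphism `SL₂(K) → GL` of the root `r`. -/
noncomputable def phi (r : ℕ) (hr : r < 12) : SL(2, K) →* GL chevG2.Idx K :=
  Classical.choose (exists_hom_root (F := K) chevG2 hG2 r hr)

theorem phi_uu (r : ℕ) (hr : r < 12) (t : K) : phi r hr (uu t) = xG hG2 r t :=
  (Classical.choose_spec (exists_hom_root (F := K) chevG2 hG2 r hr)).1 t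

theorem phi_yy (r : ℕ) (hr : r < 12) (t : K) : phi r hr (yy t) = xG hG2 (chevG2.neg r) t :=
  (Classical.choose_spec (exists_hom_root (F := K) chevG2 hG2 r hr)).2 t

theorem neg_8 : chevG2.neg 8 = 3 := by decide
theorem neg_10 : chevG2.neg 10 = 1 := by decide

set_option maxRecDepth 100000 in
theorem commTerms_empty' : ∀ p ∈ [(8, 1), (3, 10), (3, 1)], chevG2.commTerms p.1 p.2 = [] := by decide +kernel

theorem comm_8_1 (a b : K) : xG hG2 1 b * xG hG2 8 a = xG hG2 8 a * xG hG2 1 b :=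
  xG_comm 8 1 (by norm_num) (by norm_num) (by norm_num) (by norm_num) (commTerms_empty' (8, 1) (by simp)) a b

theorem comm_3_10 (a b : K) : xG hG2 10 b * xG hG2 3 a = xG hG2 3 a * xG hG2 10 b :=
  xG_comm 3 10 (by norm_num) (by norm_num) (by norm_num) (by norm_num) (commTerms_empty' (3, 10) (by simp)) a b

theorem comm_3_1 (a b : K) : xG hG2 1 b * xG hG2 3 a = xG hG2 3 a * xG hG2 1 b :=
  xG_comm 3 1 (by norm_num) (by norm_num) (by norm_num) (by norm_num) (commTerms_empty' (3, 1) (by simp)) a b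

/-- Two homomorphisms commute elementwise as soon as they do so on generators. -/
theorem commute_of_gens {G H : Type*} [Group G] [Group H] (S : Set G) (hS : Subgroup.closure S = ⊤)
    (f g : G →* H) (h : ∀ a ∈ S, ∀ b ∈ S, Commute (f a) (g b)) : ∀ a b, Commute (f a) (g b) := by
  have h1 : ∀ b ∈ S, ∀ a, Commute (f a) (g b) := by
    intro b hb a
    have ha : a ∈ Subgroup.closure S := by rw [hS]; exact Subgroup.mem_top a
    induction ha using Subgroup.closure_induction with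
    | mem a ha => exact h a ha b hb
    | one => rw [map_one]; exact Commute.one_left _
    | mul x y _ _ hx hy => rw [map_mul]; exact hx.mul_left hy
    | inv x _ hx => rw [map_inv]; exact hx.inv_left
  intro a b
  have hb : b ∈ Subgroup.closure S := by rw [hS]; exact Subgroup.mem_top b
  induction hb using Subgroup.closure_induction with
  | mem b hb => exact h1 b hb a
  | one => rw [map_one]; exact Commute.one_right _
  | mul x y _ _ hx hy => rw [map_mul]; exact hx.mul_right hy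
  | inv x _ hx => rw [map_inv]; exact hx.inv_right

/-- The images of the root homomorphisms of the orthogonal roots `a+b` and `3a+b` commute. -/
theorem phi_comm (A B : SL(2, K)) :
    Commute (phi 8 (by norm_num) A) (phi 10 (by norm_num) B) := by
  refine commute_of_gens _ closure_uu_yy _ _ ?_ A B
  rintro a (⟨t, rfl⟩ | ⟨t, rfl⟩) b (⟨s, rfl⟩ | ⟨s, rfl⟩)
  · rw [phi_uu, phi_uu]; exact (comm_8_10 t s).symm
  · rw [phi_uu, phi_yy, neg_10]; exact (comm_8_1 t s).symm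
  · rw [phi_yy, phi_uu, neg_8]; exact (comm_3_10 t s).symm
  · rw [phi_yy, phi_yy, neg_8, neg_10]; exact (comm_3_1 t s).symm

theorem ww_eq : (ww : SL(2, K)) = uu 1 * yy (-1) * uu 1 := by
  apply Subtype.ext
  ext i j
  fin_cases i <;> fin_cases j <;> simp [Matrix.mul_apply, Fin.sum_univ_two]

theorem hh_eq (s : Kˣ) : (hh s : SL(2, K)) = (uu (s : K) * yy (-(s : K)⁻¹) * uu (s : K)) * (uu (-1) * yy 1 * uu (-1)) := by
  have hs : (s : K) ≠ 0 := s.ne_zero
  apply Subtype.ext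
  ext i j
  fin_cases i <;> fin_cases j <;> simp [Matrix.mul_apply, Fin.sum_univ_two, hs]

theorem phi_ww (r : ℕ) (hr : r < 12) : phi r hr (ww : SL(2, K)) = nGt hG2 r 1 := by
  rw [ww_eq, map_mul, map_mul, phi_uu, phi_yy]
  unfold nGt
  rw [inv_one]

theorem phi_hh (r : ℕ) (hr : r < 12) (s : Kˣ) :
    phi r hr (hh s) = nGt hG2 r (s : K) * nGt hG2 r (-1) := by
  rw [hh_eq, map_mul, map_mul, map_mul, map_mul, map_mul]
  simp only [phi_uu, phi_yy]
  unfold nGt
  rw [inv_neg, inv_one, neg_neg]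

theorem coe_phi_hh (r : ℕ) (hr : r < 12) (s : Kˣ) :
    ((phi r hr (hh s) : GL chevG2.Idx K) : Matrix chevG2.Idx chevG2.Idx K) = chevG2.hMat K r (s : K) := by
  rw [phi_hh, Units.val_mul, coe_nGt_mul]

/-- `h_{a+b}(x) = h_a(x) h_b(x³)`. -/
theorem hMat_8 (x : Kˣ) :
    chevG2.hMat K 8 (x : K) = ((tor x (x ^ 3) : GL chevG2.Idx K) : Matrix chevG2.Idx chevG2.Idx K) := by
  rw [fastG2.hMat_eq_torus chevG2 agree_G2 8 (by decide) (hCheckRoot_G2 8 (by norm_num)) (x : K) x.ne_zero]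
  unfold tor
  rw [coe_torusHom]
  congr 1
  apply torusFun_congr
  intro i hi
  change i < 2 at hi
  have c0 : fastG2.coroot 8 0 = 1 := by decide
  have c1 : fastG2.coroot 8 1 = 3 := by decide
  interval_cases i
  · rw [extC_of_lt _ _ 0 (by decide), c0, zpow_one]; rfl
  · rw [extC_of_lt _ _ 1 (by decide), c1]
    show (x : K) ^ (3 : ℤ) = ((x ^ 3 : Kˣ) : K)
    rw [Units.val_pow_eq_pow_val]; norm_cast

/-- `h_{3a+b}(y) = h_a(y) h_b(y)`. -/
theorem hMat_10 (y : Kˣ) :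
    chevG2.hMat K 10 (y : K) = ((tor y y : GL chevG2.Idx K) : Matrix chevG2.Idx chevG2.Idx K) := by
  rw [fastG2.hMat_eq_torus chevG2 agree_G2 10 (by decide) (hCheckRoot_G2 10 (by norm_num)) (y : K) y.ne_zero]
  unfold tor
  rw [coe_torusHom]
  congr 1
  apply torusFun_congr
  intro i hi
  change i < 2 at hi
  have c0 : fastG2.coroot 10 0 = 1 := by decide
  have c1 : fastG2.coroot 10 1 = 1 := by decide
  interval_cases i
  · rw [extC_of_lt _ _ 0 (by decide), c0, zpow_one]; rfl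
  · rw [extC_of_lt _ _ 1 (by decide), c1, zpow_one]; rfl

theorem phi_8_hh (x : Kˣ) : phi 8 (by norm_num) (hh x) = tor x (x ^ 3) := by
  apply Units.ext
  rw [coe_phi_hh, hMat_8]

theorem phi_10_hh (y : Kˣ) : phi 10 (by norm_num) (hh y) = tor y y := by
  apply Units.ext
  rw [coe_phi_hh, hMat_10]

end Root

section Phi

variable {K : Type u} [Field K] [CharP K 3] (m : ℕ)

/-- The Frobenius power `A ↦ A^θ`, `θ = 3^m`, on `SL₂(K)`. -/
noncomputable def frobSL : SL(2, K) →* SL(2, K) := Matrix.SpecialLinearGroup.map (iterateFrobenius K 3 m)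

theorem frobSL_coe (A : SL(2, K)) (i j : Fin 2) :
    (frobSL m A : Matrix (Fin 2) (Fin 2) K) i j = ((A : Matrix (Fin 2) (Fin 2) K) i j) ^ 3 ^ m := by
  unfold frobSL
  rw [Matrix.SpecialLinearGroup.map_apply_coe, RingHom.mapMatrix_apply, Matrix.map_apply, iterateFrobenius_def]

theorem frobSL_uu (t : K) : frobSL m (uu t) = uu (t ^ 3 ^ m) := by
  apply Subtype.ext
  ext i j
  rw [frobSL_coe]
  fin_cases i <;> fin_cases j <;> simp

theorem frobSL_yy (t : K) : frobSL m (yy t) = yy (t ^ 3 ^ m) := by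
  apply Subtype.ext
  ext i j
  rw [frobSL_coe]
  fin_cases i <;> fin_cases j <;> simp

theorem frobSL_ww : frobSL m (ww : SL(2, K)) = ww := by
  apply Subtype.ext
  ext i j
  rw [frobSL_coe]
  have hodd : Odd (3 ^ m) := Odd.pow (by decide)
  fin_cases i <;> fin_cases j <;> simp [hodd.neg_one_pow]

theorem frobSL_hh (s : Kˣ) : frobSL m (hh s) = hh (s ^ 3 ^ m) := by
  apply Subtype.ext
  ext i j
  rw [frobSL_coe]
  fin_cases i <;> fin_cases j <;> simp

/-- The homomorphism `Φ(A) = φ_{a+b}(A^θ) φ_{3a+b}(A)`. -/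
noncomputable def Phi : SL(2, K) →* GL chevG2.Idx K :=
  MonoidHom.mk' (fun A => phi 8 (by norm_num) (frobSL m A) * phi 10 (by norm_num) A) (by
    intro A B
    rw [map_mul, map_mul, map_mul]
    have h := phi_comm (frobSL m B) A
    calc phi 8 (by norm_num) (frobSL m A) * phi 8 (by norm_num) (frobSL m B)
          * (phi 10 (by norm_num) A * phi 10 (by norm_num) B)
        = phi 8 (by norm_num) (frobSL m A) * (phi 8 (by norm_num) (frobSL m B) * phi 10 (by norm_num) A)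
          * phi 10 (by norm_num) B := by group
      _ = phi 8 (by norm_num) (frobSL m A) * (phi 10 (by norm_num) A * phi 8 (by norm_num) (frobSL m B))
          * phi 10 (by norm_num) B := by rw [h.eq]
      _ = _ := by group)

theorem Phi_apply (A : SL(2, K)) :
    Phi m A = phi 8 (by norm_num) (frobSL m A) * phi 10 (by norm_num) A := rfl

theorem Phi_uu (t : K) : Phi m (uu t) = xG hG2 8 (t ^ 3 ^ m) * xG hG2 10 t := by
  rw [Phi_apply, frobSL_uu, phi_uu, phi_uu]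

theorem Phi_yy (t : K) : Phi m (yy t) = xG hG2 3 (t ^ 3 ^ m) * xG hG2 1 t := by
  rw [Phi_apply, frobSL_yy, phi_yy, phi_yy, neg_8, neg_10]

theorem Phi_ww : Phi m (ww : SL(2, K)) = nGt hG2 8 1 * nGt hG2 10 1 := by
  rw [Phi_apply, frobSL_ww, phi_ww, phi_ww]

theorem Phi_hh (s : Kˣ) : Phi m (hh s) = phi 8 (by norm_num) (hh (s ^ 3 ^ m)) * phi 10 (by norm_num) (hh s) := by
  rw [Phi_apply, frobSL_hh]

/-- `Φ(diag(s, s⁻¹)) = h_a(s^{θ+1}) h_b(s^{3θ+1})`. -/
theorem Phi_hh_tor (s : Kˣ) : Phi m (hh s) = tor (s ^ 3 ^ m * s) ((s ^ 3 ^ m) ^ 3 * s) := by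
  rw [Phi_hh, phi_8_hh, phi_10_hh, ← tor_mul]

omit [CharP K 3] in
theorem zero_pow_three (m : ℕ) : (0 : K) ^ 3 ^ m = 0 := zero_pow (pow_ne_zero _ (by norm_num))

/-- `Φ` maps the upper unitriangular matrices onto the elements `u(0, t, 0)` of `U¹`. -/
theorem Phi_uu_word (t : K) : Phi m (uu t) = wordG hG2 (reeWordU (3 ^ m) 0 t 0) := by
  rw [Phi_uu, Cfsg.Agent.Lib.Helper61.ChevJ.G2Char3.wordG_reeWordU]
  unfold Cfsg.Agent.Lib.Helper61.ChevJ.G2Char3.uu
  simp only [zero_pow_three, xG_zero, one_mul, mul_one, mul_zero, add_zero, zero_pow (two_ne_zero), zero_pow (three_ne_zero)]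

/-- `Φ` maps the lower unitriangular matrices onto the elements `v(0, -t, 0)` of `V¹`. -/
theorem Phi_yy_word (t : K) : Phi m (yy t) = wordG hG2 (reeWordV (3 ^ m) 0 (-t) 0) := by
  rw [Cfsg.Agent.Lib.Helper61.ChevJ.G2ReeV.wordG_reeWordV, ← Phi_uu_word, Phi_uu, Phi_yy, map_mul,
    Cfsg.Agent.Lib.Helper61.ChevJ.G2ReeV.iota_xG_nat 8 (by norm_num),
    Cfsg.Agent.Lib.Helper61.ChevJ.G2ReeV.iota_xG_nat 10 (by norm_num), neg_neg,
    (Cfsg.Agent.Lib.Helper91.Ree.odd_three_pow m).neg_pow, neg_neg]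

theorem Phi_mem_twisted (A : SL(2, K)) : Phi m A ∈ twistedG2 K (3 ^ m) := by
  have hA : A ∈ Subgroup.closure ({g : SL(2, K) | (∃ t, g = uu t) ∨ ∃ t, g = yy t}) := by
    rw [closure_uu_yy]; exact Subgroup.mem_top A
  induction hA using Subgroup.closure_induction with
  | mem a ha =>
    rcases ha with ⟨t, rfl⟩ | ⟨t, rfl⟩
    · rw [Phi_uu_word]
      exact Cfsg.Agent.Lib.Helper61.ChevJ.G2Char3.wordG_reeWordU_mem_twisted _ _ _ _
    · rw [Phi_yy_word]
      exact Cfsg.Agent.Lib.Helper61.ChevJ.G2ReeV.wordG_reeWordV_mem_twisted _ _ _ _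
  | one => rw [map_one]; exact one_mem _
  | mul x y _ _ hx hy => rw [map_mul]; exact mul_mem hx hy
  | inv x _ hx => rw [map_inv]; exact inv_mem hx

end Phi

section Fin

variable {K : Type u} [Field K] [CharP K 3] (m : ℕ)

theorem hq_units (hq : ∀ t : K, t ^ (3 * 3 ^ m * 3 ^ m) = t) (s : Kˣ) : s ^ (3 * 3 ^ m * 3 ^ m) = s :=
  Units.ext (by rw [Units.val_pow_eq_pow_val]; exact hq s)

theorem pow_theta (hq : ∀ t : K, t ^ (3 * 3 ^ m * 3 ^ m) = t) (s : Kˣ) :
    (s ^ (3 * 3 ^ m + 1)) ^ 3 ^ m = s ^ 3 ^ m * s := by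
  rw [← pow_mul]
  have : (3 * 3 ^ m + 1) * 3 ^ m = 3 ^ m + 3 * 3 ^ m * 3 ^ m := by ring
  rw [this, pow_add, hq_units m hq]

/-- `Φ(diag(s, s⁻¹))` is the element `h(s^{3θ+1})` of `H¹`. -/
theorem Phi_hh_reeH (hq : ∀ t : K, t ^ (3 * 3 ^ m * 3 ^ m) = t) (s : Kˣ) :
    Phi m (hh s) = reeH (3 ^ m) (s ^ (3 * 3 ^ m + 1)) := by
  rw [Phi_hh_tor]
  unfold reeH
  have e2 : (s ^ 3 ^ m) ^ 3 * s = s ^ (3 * 3 ^ m + 1) := by
    rw [← pow_mul, pow_succ]; congr 2; ring
  rw [pow_theta m hq, e2]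

/-- `s² = (c^θ)³ c⁻¹` for `c = s^{3θ+1}`. -/
theorem sq_of_pow (hq : ∀ t : K, t ^ (3 * 3 ^ m * 3 ^ m) = t) (s : Kˣ) :
    s ^ 2 = ((s ^ (3 * 3 ^ m + 1)) ^ 3 ^ m) ^ 3 * (s ^ (3 * 3 ^ m + 1))⁻¹ := by
  rw [pow_theta m hq, eq_mul_inv_iff_mul_eq, mul_pow, ← pow_mul, ← pow_add, ← pow_add]
  congr 1
  ring

/-- The squares of `H¹` lie in the image of `Φ`. -/
theorem reeH_sq_eq (hq : ∀ t : K, t ^ (3 * 3 ^ m * 3 ^ m) = t) (d : Kˣ) :
    reeH (3 ^ m) (d ^ 2) = Phi m (hh (d ^ (3 * 3 ^ m - 1))) := by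
  rw [Phi_hh_reeH m hq, ← pow_mul]
  congr 1
  obtain ⟨j, hj⟩ : ∃ j, 3 * 3 ^ m = j + 1 := ⟨3 * 3 ^ m - 1, by have : 0 < 3 ^ m := by positivity
                                                                omega⟩
  have e : (3 * 3 ^ m - 1) * (3 * 3 ^ m + 1) + 1 = 3 * (3 * 3 ^ m * 3 ^ m) := by
    rw [hj]
    have : j + 1 - 1 = j := by omega
    rw [this]
    have h2 : 3 ^ m * 3 = j + 1 := by omega
    calc j * (j + 1 + 1) + 1 = (j + 1) * (j + 1) := by ring
      _ = 3 * ((j + 1) * 3 ^ m) := by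
          have : (j + 1) * (j + 1) = (j + 1) * (3 ^ m * 3) := by rw [h2]
          rw [this]; ring
  have h1 : d ^ ((3 * 3 ^ m - 1) * (3 * 3 ^ m + 1)) * d = d ^ 2 * d := by
    rw [← pow_succ, e, mul_comm 3, pow_mul, hq_units m hq, ← pow_succ]
  exact (mul_right_cancel h1).symm

theorem h0_eq_reeH : (h0 : GL chevG2.Idx K) = reeH (3 ^ m) (-1 : Kˣ) := by
  unfold h0 reeH
  rw [(Cfsg.Agent.Lib.Helper91.Ree.odd_three_pow m).neg_one_pow]

omit [CharP K 3] in
theorem h0_eq_phi8 : (h0 : GL chevG2.Idx K) = phi 8 (by norm_num) (hh (-1)) := by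
  rw [phi_8_hh]
  unfold h0
  rw [Odd.neg_one_pow (by decide)]

omit [CharP K 3] in
theorem hh_neg_one_central (A : SL(2, K)) : hh (-1) * A = A * hh (-1) := by
  apply Subtype.ext
  ext i j
  fin_cases i <;> fin_cases j <;> simp [Matrix.mul_apply, Fin.sum_univ_two]

/-- The image of `Φ` centralises `h₀`. -/
theorem h0_comm_Phi (A : SL(2, K)) : h0 * Phi m A = Phi m A * h0 := by
  rw [h0_eq_phi8, Phi_apply]
  have h1 := (phi_comm (hh (-1)) A).eq
  calc phi 8 (by norm_num) (hh (-1)) * (phi 8 (by norm_num) (frobSL m A) * phi 10 (by norm_num) A)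
      = phi 8 (by norm_num) (hh (-1) * frobSL m A) * phi 10 (by norm_num) A := by rw [map_mul, mul_assoc]
    _ = phi 8 (by norm_num) (frobSL m A) * (phi 8 (by norm_num) (hh (-1)) * phi 10 (by norm_num) A) := by
        rw [hh_neg_one_central, map_mul, mul_assoc]
    _ = _ := by rw [h1, mul_assoc]

theorem two_ne_zero' : (2 : K) ≠ 0 := by
  have h3 : (3 : K) = 0 := by
    have h := CharP.cast_eq_zero K 3
    exact_mod_cast h
  intro h2
  have : (1 : K) = 0 := by linear_combination h3 - h2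
  exact one_ne_zero this

theorem Phi_uu_inj (t t' : K) (h : Phi m (uu t) = Phi m (uu t')) : t = t' := by
  rw [Phi_uu_word, Phi_uu_word] at h
  exact (Cfsg.Agent.Lib.Helper61.ChevJ.G2Char3.reeWordU_inj _ _ _ _ _ _ _ h).2.1

theorem Phi_yy_inj (t t' : K) (h : Phi m (yy t) = Phi m (yy t')) : t = t' := by
  rw [Phi_yy_word, Phi_yy_word] at h
  exact neg_injective (Cfsg.Agent.Lib.Helper61.ChevJ.G2ReeV.reeWordV_inj _ _ _ _ _ _ _ h).2.1

theorem Phi_uu_mem_U (t : K) : Phi m (uu t) ∈ chevG2.posUnipotent K := by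
  rw [Phi_uu_word]
  exact Cfsg.Agent.Lib.Helper61.ChevJ.G2Char3.wordG_reeWordU_mem_U _ _ _ _

theorem Phi_yy_mem_V (t : K) : Phi m (yy t) ∈ chevG2.negUnipotent K := by
  rw [Phi_yy_word]
  exact Cfsg.Agent.Lib.Helper61.ChevJ.G2ReeV.wordG_reeWordV_mem_V _ _ _ _

theorem nGt_mem_N (r : ℕ) (hr : r < 12) : nGt (F := K) hG2 r 1 ∈ chevG2.monomialSubgroup K :=
  Subgroup.mem_sup_right (Subgroup.subset_closure ⟨r, hr, coe_nGt hG2 r 1⟩)

theorem Phi_ww_mem_N : Phi m (ww : SL(2, K)) ∈ chevG2.monomialSubgroup K := by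
  rw [Phi_ww]
  exact mul_mem (nGt_mem_N 8 (by norm_num)) (nGt_mem_N 10 (by norm_num))

omit [CharP K 3] in
theorem ww_conj_uu (t : K) : (ww : SL(2, K)) * uu t * ww⁻¹ = yy (-t) := by
  rw [ww_inv]
  apply Subtype.ext
  ext i j
  fin_cases i <;> fin_cases j <;> simp [Matrix.mul_apply, Fin.sum_univ_two]

/-- `Φ(w)` is not in the Borel subgroup. -/
theorem Phi_ww_not_mem_B : Phi m (ww : SL(2, K)) ∉ chevG2.borelSubgroup K := by
  intro hB
  have hH : Phi m (ww : SL(2, K)) ∈ chevG2.diagonalSubgroup K := by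
    rw [← (Cfsg.Agent.S1040.result (F := K) chevG2 hG2).2]
    exact ⟨hB, Phi_ww_mem_N m⟩
  have h1 := (Cfsg.Agent.S1036.result (F := K) chevG2 hG2).1 hH
  have hU : Phi m ww * Phi m (uu 1) * (Phi m ww)⁻¹ ∈ chevG2.posUnipotent K :=
    (Subgroup.mem_normalizer_iff.mp h1 _).mp (Phi_uu_mem_U m 1)
  rw [← map_inv, ← map_mul, ← map_mul, ww_conj_uu] at hU
  have hV := Phi_yy_mem_V m (-1 : K)
  have hbot : Phi m (yy (-1 : K)) ∈ chevG2.borelSubgroup K ⊓ chevG2.negUnipotent K :=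
    ⟨Subgroup.mem_sup_left hU, hV⟩
  rw [(Cfsg.Agent.S1037.result (F := K) chevG2 hG2).1, Subgroup.mem_bot] at hbot
  have h0 : Phi m (yy (0 : K)) = 1 := by
    have : yy (0 : K) = 1 := by
      apply Subtype.ext
      ext i j
      fin_cases i <;> fin_cases j <;> simp
    rw [this, map_one]
  have := Phi_yy_inj m (-1 : K) 0 (by rw [hbot, h0])
  exact one_ne_zero (neg_eq_zero.mp this)

theorem Phi_hh_mem_H (hq : ∀ t : K, t ^ (3 * 3 ^ m * 3 ^ m) = t) (s : Kˣ) :
    Phi m (hh s) ∈ chevG2.diagonalSubgroup K := by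
  rw [Phi_hh_reeH m hq]
  exact reeH_mem_H _ _

omit [CharP K 3] in
theorem uu_zero' : uu (0 : K) = 1 := uu_zero

/-- An element of `SL₂(K)` mapped into `H` by `Φ` is diagonal. -/
theorem eq_hh_of_Phi_mem_H (hq : ∀ t : K, t ^ (3 * 3 ^ m * 3 ^ m) = t) (A : SL(2, K))
    (h : Phi m A ∈ chevG2.diagonalSubgroup K) : ∃ s : Kˣ, A = hh s := by
  by_cases h10 : (A : Matrix (Fin 2) (Fin 2) K) 1 0 = 0
  · obtain ⟨x, t, rfl⟩ := exists_eq_uu_hh A h10
    rw [map_mul] at h
    have h1 : Phi m (uu x) ∈ chevG2.diagonalSubgroup K := by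
      have := mul_mem h (inv_mem (Phi_hh_mem_H m hq t))
      rwa [mul_inv_cancel_right] at this
    have h2 : Phi m (uu x) ∈ chevG2.posUnipotent K ⊓ chevG2.diagonalSubgroup K := ⟨Phi_uu_mem_U m x, h1⟩
    rw [(Cfsg.Agent.S1036.result (F := K) chevG2 hG2).2, Subgroup.mem_bot] at h2
    have hx : x = 0 := Phi_uu_inj m x 0 (by rw [h2, uu_zero', map_one])
    refine ⟨t, ?_⟩
    rw [hx, uu_zero', one_mul]
  · exfalso
    obtain ⟨x, t, y, rfl⟩ := exists_eq_uu_ww_hh_uu A h10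
    apply Phi_ww_not_mem_B (K := K) m
    have hB : ∀ z : K, Phi m (uu z) ∈ chevG2.borelSubgroup K := fun z => Subgroup.mem_sup_left (Phi_uu_mem_U m z)
    have hH : Phi m (hh t) ∈ chevG2.borelSubgroup K := Subgroup.mem_sup_right (Phi_hh_mem_H m hq t)
    have e : Phi m (ww : SL(2, K)) = (Phi m (uu x))⁻¹ * Phi m (uu x * ww * hh t * uu y) * (Phi m (uu y))⁻¹
        * (Phi m (hh t))⁻¹ := by
      rw [map_mul, map_mul, map_mul]; group
    rw [e]
    exact mul_mem (mul_mem (mul_mem (inv_mem (hB x)) (Subgroup.mem_sup_right h)) (inv_mem (hB y))) (inv_mem hH)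

omit [CharP K 3] in
theorem hh_injective : Function.Injective (hh : Kˣ → SL(2, K)) := by
  intro s t h
  have := congrArg (fun A : SL(2, K) => (A : Matrix (Fin 2) (Fin 2) K) 0 0) h
  simp at this
  exact Units.ext this

omit [CharP K 3] in
theorem units_sq_eq_one (s : Kˣ) (h : s ^ 2 = 1) : s = 1 ∨ s = -1 := by
  have h1 : (s : K) ^ 2 = 1 := by rw [← Units.val_pow_eq_pow_val, h, Units.val_one]
  have h2 : ((s : K) - 1) * ((s : K) + 1) = 0 := by linear_combination h1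
  rcases mul_eq_zero.mp h2 with h3 | h3
  · left; exact Units.ext (by rw [Units.val_one]; linear_combination h3)
  · right; exact Units.ext (by rw [Units.val_neg, Units.val_one]; linear_combination h3)

theorem even_exp : Even (3 * 3 ^ m + 1) := by
  have h : Odd (3 * 3 ^ m) := by
    have := Cfsg.Agent.Lib.Helper91.Ree.odd_three_pow (m + 1)
    rwa [pow_succ, mul_comm] at this
  exact h.add_one

/-- The kernel of `Φ` is `{±1}`. -/
theorem Phi_eq_one (hq : ∀ t : K, t ^ (3 * 3 ^ m * 3 ^ m) = t) (A : SL(2, K)) :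
    Phi m A = 1 ↔ A = 1 ∨ A = hh (-1) := by
  constructor
  · intro h
    obtain ⟨s, rfl⟩ := eq_hh_of_Phi_mem_H m hq A (by rw [h]; exact one_mem _)
    rw [Phi_hh_reeH m hq, ← reeH_one (3 ^ m)] at h
    have hs := reeH_injective _ h
    have h2 : s ^ 2 = 1 := by
      rw [sq_of_pow m hq, hs, one_pow, one_pow, inv_one, mul_one]
    rcases units_sq_eq_one s h2 with rfl | rfl
    · left; exact hh_one
    · right; rfl
  · rintro (rfl | rfl)
    · exact map_one _
    · rw [Phi_hh_reeH m hq, (even_exp m).neg_one_pow, reeH_one]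

theorem neg_one_ne_one : (-1 : Kˣ) ≠ 1 := by
  intro h
  have h1 : (-1 : K) = 1 := by
    have := congrArg Units.val h
    simpa using this
  have h2 : (2 : K) = 0 := by linear_combination -h1
  exact two_ne_zero' h2

/-- `h₀` is not in the image of `Φ`. -/
theorem Phi_ne_h0 (hq : ∀ t : K, t ^ (3 * 3 ^ m * 3 ^ m) = t) (A : SL(2, K)) : Phi m A ≠ h0 := by
  intro h
  have hH : (h0 : GL chevG2.Idx K) ∈ chevG2.diagonalSubgroup K := by
    rw [h0_eq_reeH m]; exact reeH_mem_H _ _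
  obtain ⟨s, rfl⟩ := eq_hh_of_Phi_mem_H m hq A (by rw [h]; exact hH)
  rw [Phi_hh_reeH m hq, h0_eq_reeH m] at h
  have hs := reeH_injective _ h
  have h2 : s ^ 2 = 1 := by
    rw [sq_of_pow m hq, hs, (Cfsg.Agent.Lib.Helper91.Ree.odd_three_pow m).neg_one_pow]
    have : ((-1 : Kˣ)) ^ 3 = -1 := Odd.neg_one_pow (by decide)
    rw [this, inv_neg, inv_one, neg_mul_neg, mul_one]
  obtain ⟨k, hk⟩ := even_exp m
  have h3 : s ^ (3 * 3 ^ m + 1) = 1 := by
    rw [hk, ← two_mul, pow_mul, h2, one_pow]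
  rw [h3] at hs
  exact neg_one_ne_one hs.symm

/-- `Φ(A) = Φ(B)` iff `A = ±B`. -/
theorem Phi_eq_iff (hq : ∀ t : K, t ^ (3 * 3 ^ m * 3 ^ m) = t) (A B : SL(2, K)) :
    Phi m A = Phi m B ↔ A = B ∨ A = hh (-1) * B := by
  have : Phi m A = Phi m B ↔ Phi m (A * B⁻¹) = 1 := by
    rw [map_mul, map_inv, mul_inv_eq_one]
  rw [this, Phi_eq_one m hq, mul_inv_eq_one, mul_inv_eq_iff_eq_mul]

end Fin

section Cent

variable {K : Type u} [Field K] [Fintype K] [CharP K 3] {m : ℕ}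

theorem hq_of_card (hK : Fintype.card K = 3 ^ (2 * m + 1)) : ∀ t : K, t ^ (3 * 3 ^ m * 3 ^ m) = t := by
  intro t
  have e : 3 * 3 ^ m * 3 ^ m = Fintype.card K := by rw [hK]; ring
  rw [e, FiniteField.pow_card]

/-- The elements of `U¹` centralising `h₀` are the `Φ(u(t))`. -/
theorem cent_U1 (hK : Fintype.card K = 3 ^ (2 * m + 1)) (g : GL chevG2.Idx K)
    (hU : g ∈ chevG2.posUnipotent K) (hT : g ∈ twistedG2 K (3 ^ m)) (hc : h0 * g = g * h0) :
    ∃ t : K, g = Phi m (uu t) := by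
  have hq := hq_of_card hK
  obtain ⟨t, x, v, rfl⟩ := (Cfsg.Agent.Lib.Helper61.ChevJ.G2ReeV.U_twisted_iff hK g).mp ⟨hU, hT⟩
  have h1 := reeH_conj m hq (-1 : Kˣ) t x v
  rw [← h0_eq_reeH m] at h1
  have h2 : h0 * wordG hD2 (reeWordU (3 ^ m) t x v) * (h0 : GL chevG2.Idx K)⁻¹
      = wordG hD2 (reeWordU (3 ^ m) t x v) := by
    rw [show wordG hD2 (reeWordU (3 ^ m) t x v) = wordG hG2 (reeWordU (3 ^ m) t x v) from rfl, hc, mul_inv_cancel_right]
  rw [h2] at h1
  obtain ⟨e1, -, e3⟩ := Cfsg.Agent.Lib.Helper61.ChevJ.G2Char3.reeWordU_inj _ _ _ _ _ _ _ h1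
  have hodd : Odd (3 * 3 ^ m) := by
    have := Cfsg.Agent.Lib.Helper91.Ree.odd_three_pow (m + 1)
    rwa [pow_succ, mul_comm] at this
  rw [Units.val_neg, Units.val_one] at e1 e3
  rw [hodd.neg_one_pow] at e1
  have ht : t = 0 := by
    have h3 : (2 : K) * t = 0 := by
      have : (-1 : K) ^ 2 * (-1 : K)⁻¹ * t = -t := by
        rw [inv_neg, inv_one]; ring
      rw [this] at e1
      linear_combination e1
    rcases mul_eq_zero.mp h3 with h4 | h4
    · exact absurd h4 two_ne_zero'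
    · exact h4
  have hv : v = 0 := by
    have h3 : (2 : K) * v = 0 := by linear_combination e3
    rcases mul_eq_zero.mp h3 with h4 | h4
    · exact absurd h4 two_ne_zero'
    · exact h4
  refine ⟨x, ?_⟩
  rw [ht, hv, Phi_uu_word]

variable (m) in
/-- The subgroup `⟨h₀⟩ Φ(SL₂(K))`. -/
noncomputable def cSub (K : Type u) [Field K] [CharP K 3] : Subgroup (GL chevG2.Idx K) :=
  Subgroup.zpowers (h0 : GL chevG2.Idx K) ⊔ (Phi (K := K) m).range

theorem cSub_le_twisted (hK : Fintype.card K = 3 ^ (2 * m + 1)) : cSub m K ≤ twistedG2 K (3 ^ m) := by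
  have hq := hq_of_card hK
  unfold cSub
  rw [sup_le_iff]
  constructor
  · rw [Subgroup.zpowers_le]
    have h1 : (h0 : GL chevG2.Idx K) ∈ Hsig K m := h0_mem_Hsig m hq
    obtain ⟨g, hg1, hg2⟩ := Cfsg.Agent.Lib.Helper20.ReeH0.h0_mem (K := K) (3 ^ m)
      (Cfsg.Agent.Lib.Helper91.Ree.odd_three_pow m)
    have e : g = h0 := by
      apply Units.ext
      rw [hg2, coe_h0]
    rw [← e]; exact hg1
  · rintro _ ⟨A, rfl⟩
    exact Phi_mem_twisted m A

theorem cSub_le_centralizer : cSub m K ≤ Subgroup.centralizer {(h0 : GL chevG2.Idx K)} := by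
  unfold cSub
  rw [sup_le_iff]
  constructor
  · rw [Subgroup.zpowers_le]
    exact Subgroup.mem_centralizer_singleton_iff.mpr rfl
  · rintro _ ⟨A, rfl⟩
    exact Subgroup.mem_centralizer_singleton_iff.mpr (h0_comm_Phi m A).symm

/-- `H¹ ≤ ⟨h₀⟩ Φ(SL₂(K))`. -/
theorem H1_le_cSub (hK : Fintype.card K = 3 ^ (2 * m + 1)) :
    chevG2.diagonalSubgroup K ⊓ twistedG2 K (3 ^ m) ≤ cSub m K := by
  have hq := hq_of_card hK
  refine le_trans (inf_le_inf le_rfl (Cfsg.Agent.Lib.Helper91.Ree.twistedG2_le_reeFix K m hq)) ?_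
  apply H_inf_F_le m hK
  · intro c
    rw [← reeH_pow, reeH_sq_eq m hq]
    exact Subgroup.mem_sup_right ⟨_, rfl⟩
  · rw [← h0_eq_reeH m]
    exact Subgroup.mem_sup_left (Subgroup.mem_zpowers _)

end Cent

end Cfsg.Agent.Lib.Helper61.ReeInv
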