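/-
helper61: the subgroup `⟨h₀⟩ Φ(SL₂(K))` of the small Ree group is isomorphic to `Z₂ × PSL₂(K)`.
-/
import Cfsg.Agent.Lib.Helper61.Ree.InvPhi

set_option autoImplicit false
set_option linter.unusedSectionVars false

namespace Cfsg.Agent.Lib.Helper61.ReeInv

open Cfsg.Lie Cfsg.Agent.Lib.Helper18 Cfsg.Agent.Lib.Helper17.SL2Pres
open Cfsg.Agent.Lib.Helper19.NatSL2 Cfsg.Agent.Lib.Helper61.ChevJ.G2ReeH
open Cfsg.Agent.Lib.Helper61.Ree
open scoped MatrixGroups

universe u

variable {K : Type u} [Field K] [CharP K 3] (m : ℕ)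

theorem h0_sq : (h0 : GL chevG2.Idx K) * h0 = 1 := by
  rw [h0_eq_reeH 0, ← reeH_mul, neg_mul_neg, mul_one, reeH_one]

theorem h0_ne_one : (h0 : GL chevG2.Idx K) ≠ 1 := by
  rw [h0_eq_reeH 0, ← reeH_one (3 ^ 0)]
  intro h
  exact neg_one_ne_one (reeH_injective _ h)

theorem orderOf_h0 : orderOf (h0 : GL chevG2.Idx K) = 2 := by
  apply orderOf_eq_prime
  · rw [pow_two, h0_sq]
  · exact h0_ne_one

/-- The kernel of `Φ` is the centre of `SL₂(K)`. -/
theorem Phi_ker (hq : ∀ t : K, t ^ (3 * 3 ^ m * 3 ^ m) = t) :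
    (Phi (K := K) m).ker = Subgroup.center SL(2, K) := by
  ext A
  rw [MonoidHom.mem_ker, Phi_eq_one m hq]
  constructor
  · rintro (rfl | rfl)
    · exact one_mem _
    · rw [Subgroup.mem_center_iff]
      intro g
      exact (hh_neg_one_central g).symm
  · intro hA
    obtain ⟨r, hr, hrA⟩ := Matrix.SpecialLinearGroup.mem_center_iff.mp hA
    rw [Fintype.card_fin] at hr
    have h2 : (r - 1) * (r + 1) = 0 := by linear_combination hr
    rcases mul_eq_zero.mp h2 with h3 | h3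
    · left
      have : r = 1 := by linear_combination h3
      subst this
      apply Subtype.ext
      rw [← hrA]
      ext i j
      fin_cases i <;> fin_cases j <;> simp
    · right
      have : r = -1 := by linear_combination h3
      subst this
      apply Subtype.ext
      rw [← hrA]
      ext i j
      fin_cases i <;> fin_cases j <;> simp

/-- `⟨h₀⟩ ∩ Φ(SL₂(K)) = 1`. -/
theorem disjoint_zpowers_range (hq : ∀ t : K, t ^ (3 * 3 ^ m * 3 ^ m) = t) :
    Disjoint (Subgroup.zpowers (h0 : GL chevG2.Idx K)) (Phi (K := K) m).range := by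
  rw [Subgroup.disjoint_def]
  intro x hx hr
  obtain ⟨k, rfl⟩ := Subgroup.mem_zpowers_iff.mp hx
  obtain ⟨A, hA⟩ := hr
  rcases Int.emod_two_eq_zero_or_one k with h | h
  · have : (h0 : GL chevG2.Idx K) ^ k = 1 := by
      rw [← Int.emod_add_mul_ediv k 2, h, zero_add, zpow_mul, zpow_ofNat, pow_two, h0_sq, one_zpow]
    exact this
  · exfalso
    have : (h0 : GL chevG2.Idx K) ^ k = h0 := by
      rw [← Int.emod_add_mul_ediv k 2, h, zpow_add, zpow_one, zpow_mul, zpow_ofNat, pow_two, h0_sq, one_zpow, mul_one]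
    rw [this] at hA
    exact Phi_ne_h0 m hq A hA

/-- `⟨h₀⟩ Φ(SL₂(K)) ≅ Z₂ × PSL₂(K)`. -/
theorem cSub_iso (hq : ∀ t : K, t ^ (3 * 3 ^ m * 3 ^ m) = t) :
    Nonempty (↥(cSub m K) ≃* Multiplicative (ZMod 2) × Matrix.ProjectiveSpecialLinearGroup (Fin 2) K) := by
  classical
  -- the two factors
  let Z : Subgroup (GL chevG2.Idx K) := Subgroup.zpowers (h0 : GL chevG2.Idx K)
  let R : Subgroup (GL chevG2.Idx K) := (Phi (K := K) m).range
  have comm : ∀ (z : Z) (r : R), Commute (Z.subtype z) (R.subtype r) := by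
    rintro ⟨z, hz⟩ ⟨r, A, rfl⟩
    obtain ⟨k, rfl⟩ := Subgroup.mem_zpowers_iff.mp hz
    show Commute ((h0 : GL chevG2.Idx K) ^ k) (Phi m A)
    exact Commute.zpow_left (h0_comm_Phi m A) k
  let f : Z × R →* GL chevG2.Idx K := MonoidHom.noncommCoprod Z.subtype R.subtype comm
  have hfinj : Function.Injective f := by
    rw [MonoidHom.noncommCoprod_injective]
    refine ⟨Subgroup.subtype_injective _, Subgroup.subtype_injective _, ?_⟩
    rw [Subgroup.range_subtype, Subgroup.range_subtype]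
    exact disjoint_zpowers_range m hq
  have hfrange : f.range = cSub m K := by
    rw [MonoidHom.noncommCoprod_range, Subgroup.range_subtype, Subgroup.range_subtype]
    rfl
  have e3 : Z × R ≃* ↥(cSub m K) := (MonoidHom.ofInjective hfinj).trans (MulEquiv.subgroupCongr hfrange)
  -- Z ≅ Z₂
  have hcard : Nat.card Z = 2 := by
    rw [Nat.card_zpowers, orderOf_h0]
  have hgen : ∀ x : Z, x ∈ Subgroup.zpowers (⟨h0, Subgroup.mem_zpowers _⟩ : Z) := by
    rintro ⟨x, hx⟩
    obtain ⟨k, rfl⟩ := Subgroup.mem_zpowers_iff.mp hx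
    exact Subgroup.mem_zpowers_iff.mpr ⟨k, Subtype.ext (by simp)⟩
  have e2 : Multiplicative (ZMod 2) ≃* Z := zmodMulEquivOfGenerator hgen hcard
  -- R ≅ PSL₂(K)
  have e1 : Matrix.ProjectiveSpecialLinearGroup (Fin 2) K ≃* R :=
    (QuotientGroup.quotientMulEquivOfEq (Phi_ker m hq).symm).trans (QuotientGroup.quotientKerEquivRange (Phi (K := K) m))
  exact ⟨e3.symm.trans (MulEquiv.prodCongr e2.symm e1.symm)⟩

end Cfsg.Agent.Lib.Helper61.ReeInv
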