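/-
helper61: helper19's abstract twisted rank-one data (`TwData`) for the small Ree group `²G₂(q) ≤ G₂(K)`, assembled from the
REE modules (helper18 `Tw10`/`ReeW0`, helper91 `ReeSig`/`ReeFixed`, helper43 `ReeLong`, helper61 `FixU`).
-/
import Cfsg.Agent.Lib.Helper19.ReeAbsA
import Cfsg.Agent.Lib.Helper18.ReeW0
import Cfsg.Agent.Lib.Helper91.ReeSig
import Cfsg.Agent.Lib.Helper43.ReeLong
import Cfsg.Agent.Lib.Helper61.Ree.FixU
import Cfsg.Agent.Lib.Helper61.ChevJ.G2ReeV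
import Cfsg.Agent.S1038

set_option autoImplicit false
set_option linter.unusedSectionVars false

namespace Cfsg.Agent.Lib.Helper61.ReeInv

open Cfsg.Lie Cfsg.Agent.Lib.Helper18 Cfsg.Agent.Lib.Helper91.Ree Cfsg.Agent.Lib.Helper43.Ree
open Cfsg.Agent.Lib.Helper19.ReeAbs Cfsg.Agent.S1099 Cfsg.Agent.Lib.Helper61.Ree

universe u

variable (K : Type u) [Field K] [Fintype K] [CharP K 3] (m : ℕ)

/-- The rank-one data of `²G₂(q)`. -/
noncomputable def reeTw (hq : ∀ t : K, t ^ (3 * 3 ^ m * 3 ^ m) = t) : TwData (GL chevG2.Idx K) where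
  U := chevG2.posUnipotent K
  V := chevG2.negUnipotent K
  H := chevG2.diagonalSubgroup K
  N := chevG2.monomialSubgroup K
  Um := fun n => Subgroup.closure (UnegSet chevG2 K n)
  L := fun n => reeLong K n
  F := (reeFix K m).map (chevG2.group K).subtype
  G1 := twistedG2 K (3 ^ m)
  Um_le := fun n => closure_UnegSet_le chevG2 n
  H_le_N := diagonal_le_monomial hD2
  H_comm := fun h hh h' hh' => H_comm h h' hh hh'
  N_norm_H := by
    intro n hn h hh
    exact monomial_conj_diagonal hD2 chevData_G2.{u} n h hn hh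
  H_norm_U := by
    intro h hh u hu
    exact (Subgroup.mem_normalizer_iff.mp ((Cfsg.Agent.S1036.result (F := K) chevG2 hD2).1 hh) u).mp hu
  V_inf_B := by
    intro v hv u hu h hh e
    have hB : v ∈ chevG2.borelSubgroup K ⊓ chevG2.negUnipotent K := by
      refine ⟨?_, hv⟩
      rw [e]
      exact mul_mem (Subgroup.mem_sup_left hu) (Subgroup.mem_sup_right hh)
    rw [(Cfsg.Agent.S1037.result (F := K) chevG2 hD2).1, Subgroup.mem_bot] at hB
    exact hB
  ex := by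
    intro g hg
    obtain ⟨x, -, rfl⟩ := hg
    obtain ⟨L⟩ := nonempty_levelData chevG2 hD2
    obtain ⟨b, hb, n, hn, u, hu, e⟩ := exists_bruhat_form hD2 chevData_G2.{u} L (x : GL chevG2.Idx K) x.2
    obtain ⟨u₀, hu₀, h₀, hh₀, rfl⟩ := (mem_borel_iff chevG2 hD2 b).mp hb
    refine ⟨u₀, hu₀, h₀ * n, mul_mem (diagonal_le_monomial hD2 hh₀) hn, u,
      Subgroup.closure_mono (UnegSet_diag_mul hD2 n h₀ hh₀) hu, ?_⟩
    show (x : GL chevG2.Idx K) = _
    rw [e]; group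
  uniq := fun u₀ u₀' n n' u u' h1 h2 h3 h4 h5 h6 h7 =>
    bruhat_strong_unique hD2 chevData_G2.{u} u₀ u₀' n n' u u' h1 h2 h3 h4 h5 h6 h7
  Um_H := fun h hh => Um_H h hh
  L_Um := fun n _ hl => reeLong_Um hl
  long_conj := fun n _ hl u hu => reeLong_conj hl u hu
  long_conj' := fun n _ hl v hv => reeLong_conj' hl v hv
  long_inv := fun n _ hl => reeLong_inv hl
  long_div := fun n _ n' _ hl hl' => reeLong_div hl hl'
  long_mul_H := fun n _ hl h hh => reeLong_H_mul hl h hh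
  long_inverts := fun n _ hl h hh => reeLong_inverts hl h hh
  F_form := fun u₀ hu₀ n hn u hu hF => reeF_form K m u₀ n u hu₀ hn hu hF
  fixN := by
    intro n hn hF
    rcases Cfsg.Agent.Lib.Helper18.ReeW0.fixN K m n hn hF with h | ⟨h, hh, e⟩
    · exact Or.inl h
    · exact Or.inr ⟨h, hh, e⟩
  G1_le_F := twistedG2_le_reeFix K m hq
  fixU_le := fun x hx hF => fixU_le K m hq x hx hF
  exists_nonB := by
    refine ⟨wordG hD2 (reeWordV (3 ^ m) 1 0 0),
      Cfsg.Agent.Lib.Helper61.ChevJ.G2ReeV.wordG_reeWordV_mem_twisted _ _ _ _, ?_⟩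
    intro u hu h hh e
    have hV := Cfsg.Agent.Lib.Helper61.ChevJ.G2ReeV.wordG_reeWordV_mem_V (K := K) (3 ^ m) 1 0 0
    have hB : wordG hD2 (reeWordV (3 ^ m) (1 : K) 0 0) ∈ chevG2.borelSubgroup K ⊓ chevG2.negUnipotent K := by
      refine ⟨?_, hV⟩
      rw [e]
      exact mul_mem (Subgroup.mem_sup_left hu) (Subgroup.mem_sup_right hh)
    rw [(Cfsg.Agent.S1037.result (F := K) chevG2 hD2).1, Subgroup.mem_bot] at hB
    have h1 : wordG hD2 (reeWordV (3 ^ m) (0 : K) 0 0) = 1 := by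
      rw [show wordG hD2 (reeWordV (3 ^ m) (0 : K) 0 0) = wordG Cfsg.Agent.Lib.Helper61.ChevJ.G2Short.hG2 _ from rfl,
        Cfsg.Agent.Lib.Helper61.ChevJ.G2ReeV.wordG_reeWordV,
        Cfsg.Agent.Lib.Helper61.ChevJ.G2Char3.wordG_reeWordU]
      have : (0 : K) ^ 3 ^ m = 0 := zero_pow (pow_ne_zero _ (by norm_num))
      simp only [this]
      unfold Cfsg.Agent.Lib.Helper61.ChevJ.G2Char3.uu
      simp [xG_zero]
    have := (Cfsg.Agent.Lib.Helper61.ChevJ.G2ReeV.reeWordV_inj (3 ^ m) (1 : K) 0 0 0 0 0 (by rw [h1]; exact hB)).1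
    exact one_ne_zero this
  U1_ne := by
    refine ⟨wordG hD2 (reeWordU (3 ^ m) 1 0 0),
      Cfsg.Agent.Lib.Helper61.ChevJ.G2Char3.wordG_reeWordU_mem_U _ _ _ _, ?_, ?_⟩
    · exact twistedG2_le_reeFix K m hq (Cfsg.Agent.Lib.Helper61.ChevJ.G2Char3.wordG_reeWordU_mem_twisted _ _ _ _)
    · intro h
      have h1 : wordG hD2 (reeWordU (3 ^ m) (0 : K) 0 0) = 1 := by
        rw [show wordG hD2 (reeWordU (3 ^ m) (0 : K) 0 0) = wordG Cfsg.Agent.Lib.Helper61.ChevJ.G2Short.hG2 _ from rfl,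
          Cfsg.Agent.Lib.Helper61.ChevJ.G2Char3.wordG_reeWordU]
        have : (0 : K) ^ 3 ^ m = 0 := zero_pow (pow_ne_zero _ (by norm_num))
        simp only [this]
        unfold Cfsg.Agent.Lib.Helper61.ChevJ.G2Char3.uu
        simp [xG_zero]
      have := (Cfsg.Agent.Lib.Helper61.ChevJ.G2Char3.reeWordU_inj (3 ^ m) (1 : K) 0 0 0 0 0 (by rw [h1]; exact h)).1
      exact one_ne_zero this

end Cfsg.Agent.Lib.Helper61.ReeInv
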