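/-
helper61: the order of the small Ree group from helper19's abstract rank-one machine and the instance `reeTw`.
-/
import Cfsg.Agent.Lib.Helper61.Ree.TwInst
import Cfsg.Agent.Lib.Helper61.Ree.HFix
import Cfsg.Agent.Lib.Helper19.ReeAbsD
import Cfsg.Agent.Lib.Helper20.ReeH0
import Cfsg.Agent.S1101

set_option autoImplicit false
set_option linter.unusedSectionVars false

namespace Cfsg.Agent.Lib.Helper61.ReeInv

open Cfsg.Lie Cfsg.Agent.Lib.Helper18 Cfsg.Agent.Lib.Helper91.Ree Cfsg.Agent.Lib.Helper43.Ree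
open Cfsg.Agent.Lib.Helper19.ReeAbs Cfsg.Agent.S1099 Cfsg.Agent.Lib.Helper61.Ree
open Cfsg.Agent.Lib.Helper61.ChevJ.G2ReeH

universe u

variable {K : Type u} [Field K] [Fintype K] [CharP K 3] {m : ℕ}

theorem hq_of_card' (hK : Fintype.card K = 3 ^ (2 * m + 1)) : ∀ t : K, t ^ (3 * 3 ^ m * 3 ^ m) = t := by
  intro t
  have e : 3 * 3 ^ m * 3 ^ m = Fintype.card K := by rw [hK]; ring
  rw [e, FiniteField.pow_card]

theorem card_mod_four (hK : Fintype.card K = 3 ^ (2 * m + 1)) : Fintype.card K % 4 = 3 := by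
  obtain ⟨j, hj⟩ := three_pow_mod m
  rw [hK, hj]; omega

theorem h0_mem_twisted : reeH (3 ^ m) (-1 : Kˣ) ∈ twistedG2 K (3 ^ m) := by
  obtain ⟨g, hg1, hg2⟩ := Cfsg.Agent.Lib.Helper20.ReeH0.h0_mem (K := K) (3 ^ m)
    (Cfsg.Agent.Lib.Helper91.Ree.odd_three_pow m)
  have e : g = reeH (3 ^ m) (-1 : Kˣ) := by
    apply Units.ext
    rw [hg2, coe_reeH_neg_one]
  rw [← e]; exact hg1

/-- `|H ∩ ²G₂(q)| = q - 1`. -/
theorem card_H1 (hK : Fintype.card K = 3 ^ (2 * m + 1)) :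
    Nat.card ↥(chevG2.diagonalSubgroup K ⊓ twistedG2 K (3 ^ m)) = 3 ^ (2 * m + 1) - 1 := by
  have hq := hq_of_card' hK
  have h := (reeTw K m hq).card_H1 (card_mod_four hK) (reeHHom (3 ^ m))
    (fun c => reeH_mem_H _ c) (fun c => reeH_mem_F m hq c)
    (fun h hh hF => reeH_surj m hq h hh hF) (reeH_injective _) h0_mem_twisted
  rw [hK] at h
  exact h

/-- `|²G₂(q)| = q³ (q - 1)(q³ + 1)`. -/
theorem ree_card (hK : Fintype.card K = 3 ^ (2 * m + 1)) :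
    Nat.card ↥(twistedG2 K (3 ^ m))
      = (3 ^ (2 * m + 1)) ^ 3 * (3 ^ (2 * m + 1) - 1) * ((3 ^ (2 * m + 1)) ^ 3 + 1) := by
  have hq := hq_of_card' hK
  have h := (reeTw K m hq).card_G1
  have hU : Nat.card ↥(chevG2.posUnipotent K ⊓ twistedG2 K (3 ^ m)) = (3 ^ (2 * m + 1)) ^ 3 :=
    (Cfsg.Agent.S1101.main hK).2
  have hH := card_H1 hK
  change Nat.card ↥(twistedG2 K (3 ^ m)) = Nat.card ↥(chevG2.posUnipotent K ⊓ twistedG2 K (3 ^ m))
    * Nat.card ↥(chevG2.diagonalSubgroup K ⊓ twistedG2 K (3 ^ m))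
    * (Nat.card ↥(chevG2.posUnipotent K ⊓ twistedG2 K (3 ^ m)) + 1) at h
  rw [h, hU, hH]

end Cfsg.Agent.Lib.Helper61.ReeInv
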