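/-
helper61: the (B, N)-pair of the small Ree group `²G₂(q)`, its Weyl group of order two and the triviality of the core of
`B¹`, from helper19's abstract rank-one machine (`ReeAbsB`) and the instance `reeTw`.
-/
import Cfsg.Agent.Lib.Helper61.Ree.TwCard
import Cfsg.Agent.Lib.Helper61.Ree.HAct
import Cfsg.Agent.Lib.Helper19.ReeAbsB

set_option autoImplicit false
set_option linter.unusedSectionVars false

namespace Cfsg.Agent.Lib.Helper61.ReeInv

open Cfsg.Lie Cfsg.Agent.Lib.Helper18 Cfsg.Agent.Lib.Helper91.Ree Cfsg.Agent.Lib.Helper43.Ree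
open Cfsg.Agent.Lib.Helper19.ReeAbs Cfsg.Agent.S1099 Cfsg.Agent.Lib.Helper61.Ree
open Cfsg.Agent.Lib.Helper61.ChevJ.G2ReeH

universe u

variable {K : Type u} [Field K] [Fintype K] [CharP K 3] {m : ℕ}

/-- `²G₂(q)` has a (B, N)-pair with `B¹ = B ∩ G¹`, `N¹ = N ∩ G¹`. -/
theorem ree_bnPair (hK : Fintype.card K = 3 ^ (2 * m + 1)) :
    ∃ P : Cfsg.BNPair ↥(twistedG2 K (3 ^ m)),
      P.B = (chevG2.borelSubgroup K ⊓ twistedG2 K (3 ^ m)).subgroupOf (twistedG2 K (3 ^ m)) ∧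
      P.N = (chevG2.monomialSubgroup K ⊓ twistedG2 K (3 ^ m)).subgroupOf (twistedG2 K (3 ^ m)) :=
  (reeTw K m (hq_of_card' hK)).exists_bnPair

/-- `N¹ / H¹` has order two. -/
theorem ree_weyl_hom (hK : Fintype.card K = 3 ^ (2 * m + 1)) :
    ∃ φ : ↥(chevG2.monomialSubgroup K ⊓ twistedG2 K (3 ^ m)) →* Multiplicative (ZMod 2), Function.Surjective φ ∧
      φ.ker = (chevG2.diagonalSubgroup K ⊓ twistedG2 K (3 ^ m)).subgroupOf
        (chevG2.monomialSubgroup K ⊓ twistedG2 K (3 ^ m)) :=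
  (reeTw K m (hq_of_card' hK)).exists_weyl_hom

/-- `H¹` acts faithfully on `U¹`. -/
theorem torus_faithful' (hK : Fintype.card K = 3 ^ (2 * m + 1)) (h : GL chevG2.Idx K)
    (hH : h ∈ chevG2.diagonalSubgroup K) (h1 : h ∈ twistedG2 K (3 ^ m))
    (hc : ∀ u ∈ chevG2.posUnipotent K, u ∈ twistedG2 K (3 ^ m) → h * u = u * h) : h = 1 := by
  have hq := hq_of_card' hK
  obtain ⟨c, rfl⟩ := reeH_surj m hq h hH (twistedG2_le_reeFix K m hq h1)
  have hc1 : c = 1 := by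
    apply reeH_cent_all m hq c
    intro t u v
    have hmem := (Cfsg.Agent.Lib.Helper61.ChevJ.G2ReeV.U_twisted_iff hK
      (wordG Cfsg.Agent.Lib.Helper61.ChevJ.G2Short.hG2 (reeWordU (3 ^ m) t u v))).mpr ⟨t, u, v, rfl⟩
    have := hc _ (Subgroup.mem_inf.mp hmem).1 (Subgroup.mem_inf.mp hmem).2
    rw [show wordG hD2 (reeWordU (3 ^ m) t u v)
      = wordG Cfsg.Agent.Lib.Helper61.ChevJ.G2Short.hG2 (reeWordU (3 ^ m) t u v) from rfl, this]
    group
  rw [hc1]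
  exact (reeHHom (K := K) (3 ^ m)).map_one

/-- The normal core of `B¹` in `²G₂(q)` is trivial. -/
theorem ree_core_trivial (hK : Fintype.card K = 3 ^ (2 * m + 1)) :
    ((chevG2.borelSubgroup K ⊓ twistedG2 K (3 ^ m)).subgroupOf (twistedG2 K (3 ^ m))).normalCore = ⊥ :=
  (reeTw K m (hq_of_card' hK)).core_trivial (torus_faithful' hK)

end Cfsg.Agent.Lib.Helper61.ReeInv
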