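import Cfsg.Agent.Lib.Helper61.Ree.G2SevenA
import Cfsg.Agent.Lib.Helper18.BN1

set_option autoImplicit false

namespace Cfsg.Agent.Lib.Helper61.G2Seven

open Cfsg Cfsg.Lie Matrix Cfsg.Agent.Lib.Helper18

universe u

variable {F : Type u} [Field F]

/-- The matrices stabilising the coordinate subspace `isS`. -/
def IsW (M : Matrix chevG2.Idx chevG2.Idx F) : Prop := ∀ i j, ¬ isS i → isS j → M i j = 0

theorem isW_one : IsW (1 : Matrix chevG2.Idx chevG2.Idx F) := by
  intro i j hi hj
  rw [Matrix.one_apply_ne]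
  rintro rfl
  exact hi hj

theorem isW_mul {M N : Matrix chevG2.Idx chevG2.Idx F} (hM : IsW M) (hN : IsW N) : IsW (M * N) := by
  intro i j hi hj
  rw [Matrix.mul_apply]
  apply Finset.sum_eq_zero
  intro k _
  by_cases hk : isS k
  · rw [hM i k hi hk, zero_mul]
  · rw [hN k j hk hj, mul_zero]

/-- The enumeration of the coordinates of the submodule. -/
def e7 : Fin 7 → chevG2.Idx :=
  (![Sum.inl 0, Sum.inr 2, Sum.inr 3, Sum.inr 4, Sum.inr 7, Sum.inr 8, Sum.inr 9] : Fin 7 → Fin 2 ⊕ Fin 12)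

theorem isS_e7 (l : Fin 7) : isS (e7 l) := by
  fin_cases l <;> decide

theorem e7_injective : Function.Injective e7 := by decide

theorem exists_e7 (k : chevG2.Idx) (hk : isS k) : ∃ l, e7 l = k := by
  rcases k with i | u
  · have hi : i.val = 0 := hk
    refine ⟨0, ?_⟩
    show (Sum.inl (0 : Fin 2) : Fin 2 ⊕ Fin 12) = Sum.inl i
    congr 1
    exact Fin.ext hi.symm
  · have hu : shortR u.val = true := hk
    revert hu
    revert u
    decide

/-- The `7 × 7` block. -/
def sub7 (M : Matrix chevG2.Idx chevG2.Idx F) : Matrix (Fin 7) (Fin 7) F := M.submatrix e7 e7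

theorem sub7_one : sub7 (1 : Matrix chevG2.Idx chevG2.Idx F) = 1 := by
  unfold sub7
  exact Matrix.submatrix_one _ e7_injective

theorem sub7_mul {M N : Matrix chevG2.Idx chevG2.Idx F} (hN : IsW N) : sub7 (M * N) = sub7 M * sub7 N := by
  classical
  ext a b
  unfold sub7
  rw [Matrix.submatrix_apply, Matrix.mul_apply, Matrix.mul_apply]
  have h1 : ∑ l : Fin 7, M.submatrix e7 e7 a l * N.submatrix e7 e7 l b
      = ∑ k ∈ Finset.univ.image e7, M (e7 a) k * N k (e7 b) := by
    rw [Finset.sum_image (fun x _ y _ h => e7_injective h)]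
    rfl
  rw [h1]
  symm
  apply Finset.sum_subset (Finset.subset_univ _)
  intro k _ hk
  have hkS : ¬ isS k := by
    intro h
    obtain ⟨l, rfl⟩ := exists_e7 k h
    exact hk (Finset.mem_image_of_mem _ (Finset.mem_univ _))
  rw [hN k (e7 b) hkS (isS_e7 b), mul_zero]

/-- The group of the invertible matrices stabilising the coordinate subspace `isS`, with their inverses. -/
def WG (F : Type u) [Field F] : Subgroup (GL chevG2.Idx F) where
  carrier := {g | IsW (g : Matrix chevG2.Idx chevG2.Idx F) ∧ IsW ((g⁻¹ : GL chevG2.Idx F) : Matrix chevG2.Idx chevG2.Idx F)}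
  mul_mem' := by
    rintro g h ⟨hg1, hg2⟩ ⟨hh1, hh2⟩
    refine ⟨?_, ?_⟩
    · rw [Units.val_mul]; exact isW_mul hg1 hh1
    · rw [_root_.mul_inv_rev, Units.val_mul]; exact isW_mul hh2 hg2
  one_mem' := by
    refine ⟨?_, ?_⟩
    · rw [Units.val_one]; exact isW_one
    · rw [inv_one, Units.val_one]; exact isW_one
  inv_mem' := by
    rintro g ⟨hg1, hg2⟩
    exact ⟨hg2, by rw [inv_inv]; exact hg1⟩

/-- The action on the seven-dimensional submodule. -/
def rho (F : Type u) [Field F] : ↥(WG F) →* GL (Fin 7) F where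
  toFun g := ⟨sub7 ((g : GL chevG2.Idx F) : Matrix chevG2.Idx chevG2.Idx F),
    sub7 (((g : GL chevG2.Idx F)⁻¹ : GL chevG2.Idx F) : Matrix chevG2.Idx chevG2.Idx F),
    by rw [← sub7_mul g.2.2, Units.mul_inv, sub7_one], by rw [← sub7_mul g.2.1, Units.inv_mul, sub7_one]⟩
  map_one' := by
    apply Units.ext
    show sub7 ((1 : GL chevG2.Idx F) : Matrix chevG2.Idx chevG2.Idx F) = 1
    rw [Units.val_one, sub7_one]
  map_mul' := by
    intro g h
    apply Units.ext
    show sub7 (((g : GL chevG2.Idx F) * (h : GL chevG2.Idx F) : GL chevG2.Idx F) : Matrix chevG2.Idx chevG2.Idx F)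
      = sub7 ((g : GL chevG2.Idx F) : Matrix chevG2.Idx chevG2.Idx F) * sub7 ((h : GL chevG2.Idx F) : Matrix chevG2.Idx chevG2.Idx F)
    rw [Units.val_mul, sub7_mul h.2.1]

theorem rho_apply (g : ↥(WG F)) (a b : Fin 7) :
    ((rho F g : GL (Fin 7) F) : Matrix (Fin 7) (Fin 7) F) a b
      = ((g : GL chevG2.Idx F) : Matrix chevG2.Idx chevG2.Idx F) (e7 a) (e7 b) := rfl

/-- In characteristic three the Chevalley group of type `G₂` stabilises the submodule. -/
theorem group_le_WG [CharP F 3] : chevG2.group F ≤ WG F := by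
  unfold ChevalleyDatum.group
  rw [Subgroup.closure_le]
  rintro g ⟨r, t, hg⟩
  have hG2 : chevG2 ∈ [chevG2, chevB2, chevD4, chevF4, chevE6, chevE7, chevE8] := by simp
  have hx : chevG2.x F r.val t = chevG2.xMat F r t := by
    unfold ChevalleyDatum.x
    rw [dif_pos r.isLt]
  have hx' : chevG2.x F r.val (-t) = chevG2.xMat F r (-t) := by
    unfold ChevalleyDatum.x
    rw [dif_pos r.isLt]
  have e : g = xG hG2 r.val t := eq_xG hG2 g r.val t (by rw [hg, hx])
  refine ⟨?_, ?_⟩
  · rw [hg]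
    exact fun i j hi hj => xMat_isS r t i j hi hj
  · rw [e, xG_inv, coe_xG, hx']
    exact fun i j hi hj => xMat_isS r (-t) i j hi hj

end Cfsg.Agent.Lib.Helper61.G2Seven
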