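/-
helper61: cyclic Sylow subgroups from cyclic subgroups of the right order; a Singer cycle `F_{q^n}ˣ` inside
`GL (Fin (n + e)) K`; the `p`-subgroups of `GL₇(q)` are cyclic for a prime `p ∣ q³ + 1`, `p ∤ q + 1`.
-/
import Mathlib

set_option autoImplicit false

namespace Cfsg.Agent.Lib.Helper61.GLCyc

/-! ### Sylow subgroups and cyclic subgroups -/

section Sylow

variable {G : Type*} [Group G] [Finite G] {p : ℕ} [Fact p.Prime]

/-- If a cyclic subgroup `C` has the same `p`-part as `G`, the Sylow `p`-subgroups of `G` are cyclic. -/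
theorem sylow_cyclic_of_cyclic (C : Subgroup G) [IsCyclic ↥C]
    (h : (Nat.card G).factorization p = (Nat.card ↥C).factorization p) (P : Sylow p G) :
    IsCyclic ↥(P : Subgroup G) := by
  obtain ⟨Q⟩ : Nonempty (Sylow p ↥C) := inferInstance
  have hQc : Nat.card ↥((Q : Subgroup ↥C).map C.subtype) = p ^ (Nat.card G).factorization p := by
    rw [Nat.card_congr ((Q : Subgroup ↥C).equivMapOfInjective C.subtype C.subtype_injective).symm.toEquiv, h]
    exact Q.card_eq_multiplicity
  let Q' : Sylow p G := Sylow.ofCard _ hQc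
  have hcyc : IsCyclic ↥(Q' : Subgroup G) := by
    have e := (Q : Subgroup ↥C).equivMapOfInjective C.subtype C.subtype_injective
    haveI : IsCyclic ↥(Q : Subgroup ↥C) := inferInstance
    exact isCyclic_of_surjective e e.surjective
  have e2 := Sylow.equiv Q' P
  exact isCyclic_of_surjective e2 e2.surjective

/-- If a cyclic subgroup `C` has the same `p`-part as `G`, the `p`-subgroups of `G` are cyclic. -/
theorem pgroup_cyclic_of_cyclic (C : Subgroup G) [IsCyclic ↥C]
    (h : (Nat.card G).factorization p = (Nat.card ↥C).factorization p) (R : Subgroup G) (hR : IsPGroup p ↥R) :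
    IsCyclic ↥R := by
  obtain ⟨P, hP⟩ := hR.exists_le_sylow
  haveI := sylow_cyclic_of_cyclic C h P
  have e := Subgroup.subgroupOfEquivOfLe hP
  haveI : IsCyclic ↥(R.subgroupOf (P : Subgroup G)) := inferInstance
  exact isCyclic_of_surjective e e.surjective

end Sylow

/-! ### A Singer cycle -/

section Singer


variable (K : Type*) [Field K] [Fintype K]

/-- A Singer cycle: `GL (Fin (n + e)) K` has a cyclic subgroup of order `q ^ n - 1`. -/
theorem exists_singer (p : ℕ) [Fact p.Prime] [CharP K p] (n e d : ℕ) [NeZero n] (hd : n + e = d) :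
    ∃ C : Subgroup (GL (Fin d) K), IsCyclic ↥C ∧ Nat.card ↥C = Fintype.card K ^ n - 1 := by
  classical
  subst hd
  let L := FiniteField.Extension K p n
  have hfin : Module.finrank K (L × (Fin e → K)) = n + e := by
    rw [Module.finrank_prod, FiniteField.finrank_extension, Module.finrank_fintype_fun_eq_card, Fintype.card_fin]
  let b : Module.Basis (Fin (n + e)) K (L × (Fin e → K)) := Module.finBasisOfFinrankEq K _ hfin
  let g : L →* Module.End K (L × (Fin e → K)) :=
    (LinearMap.prodMapAlgHom K L (Fin e → K)).toMonoidHom.comp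
      (MonoidHom.prod ((Algebra.lmul K L).toMonoidHom) (1 : L →* Module.End K (Fin e → K)))
  have hg : ∀ x l v, g x (l, v) = (x * l, v) := by
    intro x l v
    rfl
  let φ : Lˣ →* GL (Fin (n + e)) K :=
    (Units.mapEquiv (LinearMap.toMatrixAlgEquiv b).toMulEquiv).toMonoidHom.comp (Units.map g)
  have hinj : Function.Injective φ := by
    intro x y hxy
    have h1 : Units.map g x = Units.map g y := (Units.mapEquiv (LinearMap.toMatrixAlgEquiv b).toMulEquiv).injective hxy
    have h2 : g x = g y := congrArg Units.val h1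
    have h3 := congrArg (fun f => (f (1, 0)).1) h2
    simp only [hg, mul_one] at h3
    exact Units.ext h3
  refine ⟨φ.range, ?_, ?_⟩
  · haveI : IsCyclic Lˣ := inferInstance
    exact isCyclic_of_surjective φ.rangeRestrict φ.rangeRestrict_surjective
  · rw [← Nat.card_congr (MonoidHom.ofInjective hinj).toEquiv, Nat.card_units, FiniteField.natCard_extension,
      Nat.card_eq_fintype_card]

end Singer

/-! ### The `p`-part of `|GL₇(q)|` -/

section Val


/-- Arithmetic: for a prime `p ≠ 2` with `p ∣ q³ + 1`, `p ∤ q + 1`, the `p`-part of `|GL₇(q)|` is that of `q⁶ - 1`. -/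
theorem factorization_GL7 (q p : ℕ) (hq : 0 < q) (hp : p.Prime) (hp2 : p ≠ 2) (h1 : p ∣ q ^ 3 + 1) (h2 : ¬ p ∣ q + 1) :
    (∏ i : Fin 7, (q ^ 7 - q ^ (i : ℕ))).factorization p = (q ^ 6 - 1).factorization p := by
  haveI : Fact p.Prime := ⟨hp⟩
  set x : ZMod p := (q : ZMod p) with hx
  have hx3 : x ^ 3 = -1 := by
    have := (ZMod.natCast_eq_zero_iff (q ^ 3 + 1) p).mpr h1
    push_cast at this
    rw [← hx] at this
    exact eq_neg_of_add_eq_zero_left this
  have hx1 : x ≠ -1 := by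
    intro h
    apply h2
    rw [← ZMod.natCast_eq_zero_iff]
    push_cast
    rw [← hx, h]; ring
  have h20 : (2 : ZMod p) ≠ 0 := by
    intro h
    have h' : ((2 : ℕ) : ZMod p) = 0 := by exact_mod_cast h
    rw [ZMod.natCast_eq_zero_iff] at h'
    exact hp2 ((Nat.prime_dvd_prime_iff_eq hp Nat.prime_two).mp h')
  have h11 : (1 : ZMod p) ≠ -1 := by
    intro h
    apply h20
    have : (2 : ZMod p) = 1 + 1 := by norm_num
    rw [this]
    nth_rewrite 1 [h]
    ring
  have e1 : x ^ 1 ≠ 1 := by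
    intro h
    rw [pow_one] at h
    rw [h, one_pow] at hx3
    exact h11 hx3
  have e2 : x ^ 2 ≠ 1 := by
    intro h
    apply hx1
    calc x = x ^ 2 * x := by rw [h, one_mul]
      _ = x ^ 3 := by ring
      _ = -1 := hx3
  have e3 : x ^ 3 ≠ 1 := by
    intro h
    rw [hx3] at h
    exact h11 h.symm
  have e4 : x ^ 4 ≠ 1 := by
    intro h
    apply hx1
    have : x ^ 4 = -x := by
      calc x ^ 4 = x ^ 3 * x := by ring
        _ = -x := by rw [hx3]; ring
    rw [this] at h
    rw [← h, neg_neg]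
  have e6 : x ^ 6 = 1 := by
    calc x ^ 6 = (x ^ 3) ^ 2 := by ring
      _ = 1 := by rw [hx3]; ring
  have e5 : x ^ 5 ≠ 1 := by
    intro h
    apply e1
    calc x ^ 1 = x ^ 5 * x := by rw [h, one_mul, pow_one]
      _ = x ^ 6 := by ring
      _ = 1 := e6
  have e7 : x ^ 7 ≠ 1 := by
    intro h
    apply e1
    calc x ^ 1 = x ^ 6 * x := by rw [e6, one_mul, pow_one]
      _ = x ^ 7 := by ring
      _ = 1 := h
  have hnd : ∀ j : ℕ, x ^ j ≠ 1 → ¬ p ∣ q ^ j - 1 := by
    intro j hj hd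
    apply hj
    have := (ZMod.natCast_eq_zero_iff (q ^ j - 1) p).mpr hd
    rw [Nat.cast_sub (Nat.one_le_pow _ _ hq), Nat.cast_pow, Nat.cast_one, sub_eq_zero] at this
    exact this
  have hpq : ¬ p ∣ q := by
    intro h
    have h3 : p ∣ q ^ 3 := dvd_pow h (by norm_num)
    have := (Nat.dvd_add_right h3).mp h1
    exact hp.one_lt.ne' (Nat.dvd_one.mp this)
  have hsub : ∀ i j : ℕ, q ^ (i + j) - q ^ i = q ^ i * (q ^ j - 1) := by
    intro i j
    rw [Nat.mul_sub, mul_one, pow_add]
  have hprod : (∏ i : Fin 7, (q ^ 7 - q ^ (i : ℕ))) = (q ^ 6 - 1) *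
      (q ^ 21 * ((q ^ 7 - 1) * ((q ^ 5 - 1) * ((q ^ 4 - 1) * ((q ^ 3 - 1) * ((q ^ 2 - 1) * (q ^ 1 - 1))))))) := by
    have s0 := hsub 0 7
    have s1 := hsub 1 6
    have s2 := hsub 2 5
    have s3 := hsub 3 4
    have s4 := hsub 4 3
    have s5 := hsub 5 2
    have s6 := hsub 6 1
    norm_num at s1 s2 s3 s4 s5 s6
    simp only [Fin.prod_univ_succ, Fin.val_zero, Fin.val_succ, Finset.univ_eq_empty, Finset.prod_empty,
      Fin.isValue]
    norm_num
    rw [s1, s2, s3, s4, s5, s6]
    ring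
  have hpos : ∀ j : ℕ, 0 < j → q ^ j - 1 ≠ 0 ∨ q = 1 := by
    intro j hj
    by_cases hq1 : q = 1
    · exact Or.inr hq1
    · left
      have : 1 < q ^ j := Nat.one_lt_pow hj.ne' (by omega)
      omega
  have hm : ¬ p ∣ (q ^ 21 * ((q ^ 7 - 1) * ((q ^ 5 - 1) * ((q ^ 4 - 1) * ((q ^ 3 - 1) * ((q ^ 2 - 1) * (q ^ 1 - 1))))))) := by
    intro h
    rcases hp.dvd_mul.mp h with h | h
    · exact hpq (hp.dvd_of_dvd_pow h)
    rcases hp.dvd_mul.mp h with h | h
    · exact hnd 7 e7 h
    rcases hp.dvd_mul.mp h with h | h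
    · exact hnd 5 e5 h
    rcases hp.dvd_mul.mp h with h | h
    · exact hnd 4 e4 h
    rcases hp.dvd_mul.mp h with h | h
    · exact hnd 3 e3 h
    rcases hp.dvd_mul.mp h with h | h
    · exact hnd 2 e2 h
    · exact hnd 1 e1 h
  rw [hprod]
  by_cases h0 : q ^ 6 - 1 = 0
  · rw [h0, zero_mul]
  · have hm0 : (q ^ 21 * ((q ^ 7 - 1) * ((q ^ 5 - 1) * ((q ^ 4 - 1) * ((q ^ 3 - 1) * ((q ^ 2 - 1) * (q ^ 1 - 1))))))) ≠ 0 := by
      intro h
      rw [h] at hm
      exact hm (dvd_zero p)
    rw [Nat.factorization_mul h0 hm0, Finsupp.add_apply, Nat.factorization_eq_zero_of_not_dvd hm, add_zero]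

end Val

section Main

variable (K : Type*) [Field K] [Fintype K]

/-- For a prime `p ≠ 2` with `p ∣ q³ + 1`, `p ∤ q + 1`, the `p`-subgroups of `GL₇(q)` are cyclic. -/
theorem pgroup_GL7_cyclic (p₀ : ℕ) [Fact p₀.Prime] [CharP K p₀] (p : ℕ) [Fact p.Prime] (hp2 : p ≠ 2)
    (h1 : p ∣ Fintype.card K ^ 3 + 1) (h2 : ¬ p ∣ Fintype.card K + 1)
    (R : Subgroup (GL (Fin 7) K)) (hR : IsPGroup p ↥R) : IsCyclic ↥R := by
  obtain ⟨C, hC, hCc⟩ := exists_singer K p₀ 6 1 7 (by norm_num)
  haveI := hC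
  apply pgroup_cyclic_of_cyclic C _ R hR
  rw [hCc, Matrix.card_GL_field]
  exact factorization_GL7 (Fintype.card K) p Fintype.card_pos Fact.out hp2 h1 h2

end Main

end Cfsg.Agent.Lib.Helper61.GLCyc
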