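/-
helper61: the small Ree group `²G₂(q)` acts faithfully on the seven-dimensional submodule (characteristic three), so its
`p`-subgroups are cyclic for the primes `p ≠ 2` dividing `q³ + 1` and not `q + 1`.
-/
import Cfsg.Agent.Lib.Helper61.Ree.G2SevenB
import Cfsg.Agent.Lib.Helper61.Ree.GLCyc
import Cfsg.Agent.Lib.Helper61.Ree.TwCard
import Cfsg.Agent.Lib.Helper20.ReeSimple

set_option autoImplicit false
set_option linter.unusedSectionVars false

namespace Cfsg.Agent.Lib.Helper61.G2Seven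

open Cfsg Cfsg.Lie Matrix Cfsg.Agent.Lib.Helper18 Cfsg.Agent.Lib.Helper61.Ree
open Cfsg.Agent.Lib.Helper61.ChevJ.G2ReeH

universe u

variable {K : Type u} [Field K] [Fintype K] [CharP K 3] {m : ℕ}

theorem twisted_le_WG : twistedG2 K (3 ^ m) ≤ WG K :=
  (Cfsg.Agent.Lib.Helper91.Ree.twistedG2_le_group K (3 ^ m)).trans group_le_WG

/-- The action of `²G₂(q)` on the seven-dimensional submodule. -/
noncomputable def rhoT (K : Type u) [Field K] [Fintype K] [CharP K 3] (m : ℕ) :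
    ↥(twistedG2 K (3 ^ m)) →* GL (Fin 7) K :=
  (rho K).comp (Subgroup.inclusion twisted_le_WG)

/-- An entry of a torus element. -/
theorem tor_entry (x y : Kˣ) :
    ((tor x y : GL chevG2.Idx K) : Matrix chevG2.Idx chevG2.Idx K) (e7 4) (e7 4) = (x : K) ^ 2 * ((y : K))⁻¹ := by
  unfold tor
  rw [coe_torusHom]
  have he : e7 4 = (Sum.inr (⟨7, by decide⟩ : Fin chevG2.nroots) : chevG2.Idx) := rfl
  rw [he, Matrix.diagonal_apply_eq, ← coe_chiU]
  unfold chiU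
  have hp := prod_two (vec2 x y) (fun i => chevG2.cartan i 7)
  have hp' : (∏ i : Fin chevG2.rank, vec2 x y i ^ chevG2.cartan (i : ℕ) ((⟨7, by decide⟩ : Fin chevG2.nroots) : ℕ))
      = vec2 x y (0 : Fin 2) ^ chevG2.cartan ((0 : Fin 2) : ℕ) 7 * vec2 x y (1 : Fin 2) ^ chevG2.cartan ((1 : Fin 2) : ℕ) 7 :=
    hp
  rw [hp']
  have h1 : chevG2.cartan ((0 : Fin 2) : ℕ) 7 = 2 := cartan_vals.1
  have h2 : chevG2.cartan ((1 : Fin 2) : ℕ) 7 = -1 := cartan_vals.2.1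
  rw [h1, h2]
  have e0 : vec2 x y (0 : Fin 2) = x := rfl
  have e1 : vec2 x y (1 : Fin 2) = y := rfl
  rw [e0, e1]
  push_cast
  rw [_root_.zpow_neg_one]
  first | rfl | norm_cast | (congr 1; exact zpow_ofNat _ 2)

theorem rhoT_injective (hm : 1 ≤ m) (hK : Fintype.card K = 3 ^ (2 * m + 1)) :
    Function.Injective (rhoT K m) := by
  haveI := Cfsg.Agent.Lib.Helper20.ReeSimple.ree_simple hm hK
  rw [← MonoidHom.ker_eq_bot_iff]
  rcases (rhoT K m).normal_ker.eq_bot_or_eq_top with h | h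
  · exact h
  · exfalso
    have hmem : (⟨reeH (3 ^ m) (-1 : Kˣ), Cfsg.Agent.Lib.Helper61.ReeInv.h0_mem_twisted⟩ : ↥(twistedG2 K (3 ^ m)))
        ∈ (rhoT K m).ker := by rw [h]; exact Subgroup.mem_top _
    rw [MonoidHom.mem_ker] at hmem
    have h1 := congrArg (fun g : GL (Fin 7) K => (g : Matrix (Fin 7) (Fin 7) K) 4 4) hmem
    simp only [Units.val_one, Matrix.one_apply_eq] at h1
    have h2 : ((rhoT K m ⟨reeH (3 ^ m) (-1 : Kˣ), Cfsg.Agent.Lib.Helper61.ReeInv.h0_mem_twisted⟩ : GL (Fin 7) K) :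
        Matrix (Fin 7) (Fin 7) K) 4 4
        = ((reeH (3 ^ m) (-1 : Kˣ) : GL chevG2.Idx K) : Matrix chevG2.Idx chevG2.Idx K) (e7 4) (e7 4) := rfl
    rw [h2] at h1
    unfold reeH at h1
    rw [tor_entry, (Cfsg.Agent.Lib.Helper91.Ree.odd_three_pow m).neg_one_pow] at h1
    have h3 : ((-1 : Kˣ) : K) = -1 := by rw [Units.val_neg, Units.val_one]
    rw [h3] at h1
    have h4 : (-1 : K) ^ 2 * (-1 : K)⁻¹ = -1 := by
      rw [neg_one_sq, one_mul, inv_neg, inv_one]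
    rw [h4] at h1
    have h5 : (2 : K) = 0 := by
      have : (2 : K) = 1 - (-1) := by ring
      rw [this, h1]; ring
    have h6 : ((2 : ℕ) : K) = 0 := by exact_mod_cast h5
    rw [CharP.cast_eq_zero_iff K 3] at h6
    omega

/-- The `p`-subgroups of `²G₂(q)` are cyclic for a prime `p ≠ 2` with `p ∣ q³ + 1`, `p ∤ q + 1`. -/
theorem pgroup_cyclic (hm : 1 ≤ m) (hK : Fintype.card K = 3 ^ (2 * m + 1)) (p : ℕ) [Fact p.Prime] (hp2 : p ≠ 2)
    (h1 : p ∣ (3 ^ (2 * m + 1)) ^ 3 + 1) (h2 : ¬ p ∣ 3 ^ (2 * m + 1) + 1)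
    (R : Subgroup ↥(twistedG2 K (3 ^ m))) (hR : IsPGroup p ↥R) : IsCyclic ↥R := by
  haveI : Fact (Nat.Prime 3) := ⟨by norm_num⟩
  have hinj := rhoT_injective hm hK
  have e := R.equivMapOfInjective (rhoT K m) hinj
  have hR' : IsPGroup p ↥(R.map (rhoT K m)) := hR.map (rhoT K m)
  haveI := Cfsg.Agent.Lib.Helper61.GLCyc.pgroup_GL7_cyclic K 3 p hp2 (by rw [hK]; exact h1) (by rw [hK]; exact h2)
    (R.map (rhoT K m)) hR'
  exact isCyclic_of_surjective e.symm e.symm.surjective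

end Cfsg.Agent.Lib.Helper61.G2Seven
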