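/-
helper61: the Sylow `p`-subgroups of the small Ree group `²G₂(q)`, `q = 3^(2m+1) ≥ 27`, are cyclic for `p > 3`.
* `p ∣ q - 1`: the cyclic torus `H¹` of order `q - 1`;
* `p ∣ q + 1`: the image under `Φ : SL₂(q) → ²G₂(q)` of a Sylow subgroup of the non-split torus of `SL₂(q)`;
* `p ∣ q² - q + 1`: the faithful action on the seven-dimensional module and the Singer cycle of `GL₆(q)`.
-/
import Cfsg.Agent.Lib.Helper61.Ree.G2SevenC
import Cfsg.Agent.Lib.Helper61.Ree.InvPhi
import Cfsg.Agent.Lib.Helper61.Ree.TwTorus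
import Cfsg.Agent.Lib.Helper5.SL2Tori

set_option autoImplicit false
set_option linter.unusedSectionVars false

namespace Cfsg.Agent.Lib.Helper61.ReeInv

open Cfsg.Lie Cfsg.Agent.Lib.Helper18 Cfsg.Agent.Lib.Helper19.NatSL2 Cfsg.Agent.Lib.Helper61.Ree
open Cfsg.Agent.Lib.Helper61.GLCyc
open scoped MatrixGroups

universe u

variable {K : Type u} [Field K] [Fintype K] [CharP K 3] {m : ℕ}

/-- `Φ` as a homomorphism into `²G₂(q)`. -/
noncomputable def PhiT (K : Type u) [Field K] [Fintype K] [CharP K 3] (m : ℕ) :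
    SL(2, K) →* ↥(twistedG2 K (3 ^ m)) :=
  (Phi (K := K) m).codRestrict (twistedG2 K (3 ^ m)) (Phi_mem_twisted m)

theorem PhiT_eq_one (hq : ∀ t : K, t ^ (3 * 3 ^ m * 3 ^ m) = t) (A : SL(2, K)) (h : PhiT K m A = 1) :
    A * A = 1 := by
  have h1 : Phi m A = 1 := congrArg Subtype.val h
  rcases (Phi_eq_one m hq A).mp h1 with rfl | rfl
  · rw [mul_one]
  · exact hh_neg_one_sq

/-- A cyclic subgroup of `²G₂(q)` carrying the `p`-part of `q + 1`, `p` odd. -/
theorem exists_cyclic_add_one (hK : Fintype.card K = 3 ^ (2 * m + 1)) (p : ℕ) [Fact p.Prime] (hp2 : p ≠ 2) :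
    ∃ C : Subgroup ↥(twistedG2 K (3 ^ m)), IsCyclic ↥C ∧
      Nat.card ↥C = p ^ (3 ^ (2 * m + 1) + 1).factorization p := by
  have hq := hq_of_card' hK
  haveI : Fact (Nat.Prime 3) := ⟨by norm_num⟩
  obtain ⟨T, hT, hTc⟩ := Cfsg.Agent.Lib.Helper5.exists_cyclic_card_add_one (F := K) 3
  haveI := hT
  obtain ⟨R⟩ : Nonempty (Sylow p ↥T) := inferInstance
  have hRc : Nat.card ↥(R : Subgroup ↥T) = p ^ (3 ^ (2 * m + 1) + 1).factorization p := by
    rw [R.card_eq_multiplicity, hTc, hK]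
  let R' : Subgroup SL(2, K) := (R : Subgroup ↥T).map T.subtype
  have e1 := (R : Subgroup ↥T).equivMapOfInjective T.subtype T.subtype_injective
  have hR'p : IsPGroup p ↥R' := R.isPGroup'.map T.subtype
  let f : ↥R' →* ↥(twistedG2 K (3 ^ m)) := (PhiT K m).comp R'.subtype
  have hinj : Function.Injective f := by
    rw [injective_iff_map_eq_one]
    intro x hx
    have h2 : (x : SL(2, K)) * (x : SL(2, K)) = 1 := PhiT_eq_one hq _ hx
    have h2' : x ^ 2 = 1 := by
      apply Subtype.ext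
      rw [pow_two]
      exact h2
    obtain ⟨k, hk⟩ := hR'p x
    have hd1 : orderOf x ∣ 2 := orderOf_dvd_of_pow_eq_one h2'
    have hd2 : orderOf x ∣ p ^ k := orderOf_dvd_of_pow_eq_one hk
    have hcop : Nat.Coprime 2 (p ^ k) := by
      apply Nat.Coprime.pow_right
      rw [Nat.coprime_primes Nat.prime_two Fact.out]
      exact fun h => hp2 h.symm
    have := Nat.eq_one_of_dvd_coprimes hcop hd1 hd2
    exact orderOf_eq_one_iff.mp this
  have e2 := MonoidHom.ofInjective hinj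
  refine ⟨f.range, ?_, ?_⟩
  · haveI : IsCyclic ↥(R : Subgroup ↥T) := inferInstance
    have e3 := e1.symm.trans (MulEquiv.refl _)
    exact isCyclic_of_surjective (e2.toMonoidHom.comp e1.toMonoidHom)
      (e2.surjective.comp e1.surjective)
  · rw [← Nat.card_congr e2.toEquiv, ← Nat.card_congr e1.toEquiv, hRc]

/-- The torus `H¹` as a subgroup of `²G₂(q)`. -/
theorem exists_cyclic_sub_one (hK : Fintype.card K = 3 ^ (2 * m + 1)) :
    ∃ C : Subgroup ↥(twistedG2 K (3 ^ m)), IsCyclic ↥C ∧ Nat.card ↥C = 3 ^ (2 * m + 1) - 1 := by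
  have e := Subgroup.subgroupOfEquivOfLe
    (inf_le_right : chevG2.diagonalSubgroup K ⊓ twistedG2 K (3 ^ m) ≤ twistedG2 K (3 ^ m))
  refine ⟨(chevG2.diagonalSubgroup K ⊓ twistedG2 K (3 ^ m)).subgroupOf (twistedG2 K (3 ^ m)), ?_, ?_⟩
  · haveI := isCyclic_H1 hK
    exact isCyclic_of_surjective e.symm e.symm.surjective
  · rw [Nat.card_congr e.toEquiv, card_H1 hK]

/-- Arithmetic: the `p`-part of `|²G₂(q)|` for a prime `p > 3`. -/
theorem arith (q p : ℕ) (hq : 0 < q) (hp : p.Prime) (hp3 : 3 < p) (hpq : ¬ p ∣ q) :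
    (p ∣ q - 1 ∧ (q ^ 3 * (q - 1) * (q ^ 3 + 1)).factorization p = (q - 1).factorization p) ∨
    (p ∣ q + 1 ∧ (q ^ 3 * (q - 1) * (q ^ 3 + 1)).factorization p = (q + 1).factorization p) ∨
    (¬ p ∣ q + 1 ∧ p ∣ q ^ 3 + 1) ∨ ¬ p ∣ q ^ 3 * (q - 1) * (q ^ 3 + 1) := by
  haveI : Fact p.Prime := ⟨hp⟩
  have hq3 : ¬ p ∣ q ^ 3 := fun h => hpq (hp.dvd_of_dvd_pow h)
  have hq30 : q ^ 3 ≠ 0 := pow_ne_zero _ hq.ne'
  have h30 : (q ^ 3 + 1) ≠ 0 := by omega
  have h20 : (2 : ZMod p) ≠ 0 := by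
    intro h
    have h' : ((2 : ℕ) : ZMod p) = 0 := by exact_mod_cast h
    rw [ZMod.natCast_eq_zero_iff] at h'
    have := (Nat.prime_dvd_prime_iff_eq hp Nat.prime_two).mp h'
    omega
  have h3' : (3 : ZMod p) ≠ 0 := by
    intro h
    have h' : ((3 : ℕ) : ZMod p) = 0 := by exact_mod_cast h
    rw [ZMod.natCast_eq_zero_iff] at h'
    have := (Nat.prime_dvd_prime_iff_eq hp Nat.prime_three).mp h'
    omega
  by_cases h1 : p ∣ q - 1
  · left
    refine ⟨h1, ?_⟩
    have hx : (q : ZMod p) = 1 := by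
      have := (ZMod.natCast_eq_zero_iff (q - 1) p).mpr h1
      rw [Nat.cast_sub hq, Nat.cast_one, sub_eq_zero] at this
      exact this
    have h3 : ¬ p ∣ q ^ 3 + 1 := by
      intro h
      have := (ZMod.natCast_eq_zero_iff (q ^ 3 + 1) p).mpr h
      push_cast at this
      rw [hx] at this
      apply h20
      rw [← this]; ring
    by_cases hq1 : q - 1 = 0
    · rw [hq1, mul_zero, zero_mul]
    · rw [Nat.factorization_mul (Nat.mul_ne_zero hq30 hq1) h30, Nat.factorization_mul hq30 hq1, Finsupp.add_apply,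
        Finsupp.add_apply, Nat.factorization_eq_zero_of_not_dvd hq3, Nat.factorization_eq_zero_of_not_dvd h3,
        zero_add, add_zero]
  · by_cases h2 : p ∣ q + 1
    · right; left
      refine ⟨h2, ?_⟩
      have hx : (q : ZMod p) = -1 := by
        have := (ZMod.natCast_eq_zero_iff (q + 1) p).mpr h2
        push_cast at this
        exact eq_neg_of_add_eq_zero_left this
      have hfac : q ^ 3 + 1 = (q + 1) * (q * (q - 1) + 1) := by
        obtain ⟨t, rfl⟩ : ∃ t, q = t + 1 := ⟨q - 1, by omega⟩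
        rw [Nat.add_sub_cancel]
        ring
      have h4 : ¬ p ∣ q * (q - 1) + 1 := by
        intro h
        have := (ZMod.natCast_eq_zero_iff (q * (q - 1) + 1) p).mpr h
        rw [Nat.cast_add, Nat.cast_mul, Nat.cast_sub hq, hx] at this
        apply h3'
        rw [← this]; push_cast; ring
      have hq1 : q - 1 ≠ 0 := by
        intro h
        apply h1
        rw [h]
        exact dvd_zero p
      have h40 : q * (q - 1) + 1 ≠ 0 := by omega
      rw [Nat.factorization_mul (Nat.mul_ne_zero hq30 hq1) h30, Nat.factorization_mul hq30 hq1, Finsupp.add_apply,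
        Finsupp.add_apply, Nat.factorization_eq_zero_of_not_dvd hq3, Nat.factorization_eq_zero_of_not_dvd h1,
        zero_add, zero_add, hfac, Nat.factorization_mul (by omega) h40, Finsupp.add_apply,
        Nat.factorization_eq_zero_of_not_dvd h4, add_zero]
    · by_cases h3 : p ∣ q ^ 3 + 1
      · right; right; left
        exact ⟨h2, h3⟩
      · right; right; right
        intro h
        rcases hp.dvd_mul.mp h with h | h
        · rcases hp.dvd_mul.mp h with h | h
          · exact hq3 h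
          · exact h1 h
        · exact h3 h

/-- The Sylow `p`-subgroups of `²G₂(q)` are cyclic for `p > 3`. -/
theorem sylow_cyclic (hm : 1 ≤ m) (hK : Fintype.card K = 3 ^ (2 * m + 1)) {p : ℕ} [Fact p.Prime] (hp : 3 < p)
    (P : Sylow p ↥(twistedG2 K (3 ^ m))) : IsCyclic ↥(P : Subgroup ↥(twistedG2 K (3 ^ m))) := by
  have hpp : p.Prime := Fact.out
  have hcard := ree_card hK
  have hpq : ¬ p ∣ 3 ^ (2 * m + 1) := by
    intro h
    have := (Nat.prime_dvd_prime_iff_eq hpp Nat.prime_three).mp (hpp.dvd_of_dvd_pow h)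
    omega
  rcases arith (3 ^ (2 * m + 1)) p (by positivity) hpp hp hpq with ⟨-, h⟩ | ⟨-, h⟩ | ⟨h2, h3⟩ | h
  · obtain ⟨C, hC, hCc⟩ := exists_cyclic_sub_one hK
    haveI := hC
    exact sylow_cyclic_of_cyclic C (by rw [hcard, hCc, h]) P
  · obtain ⟨C, hC, hCc⟩ := exists_cyclic_add_one hK p (by omega)
    haveI := hC
    refine sylow_cyclic_of_cyclic C ?_ P
    rw [hcard, hCc, h, Nat.Prime.factorization_pow hpp, Finsupp.single_eq_same]
  · exact Cfsg.Agent.Lib.Helper61.G2Seven.pgroup_cyclic hm hK p (by omega) h3 h2 _ P.isPGroup'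
  · have h1 : Nat.card ↥(P : Subgroup ↥(twistedG2 K (3 ^ m))) = 1 := by
      rw [P.card_eq_multiplicity, hcard, Nat.factorization_eq_zero_of_not_dvd h, pow_zero]
    haveI : Subsingleton ↥(P : Subgroup ↥(twistedG2 K (3 ^ m))) := (Nat.card_eq_one_iff_unique.mp h1).1
    exact isCyclic_of_subsingleton

end Cfsg.Agent.Lib.Helper61.ReeInv
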