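/-
helper61: the centraliser of an involution of `H ∩ G¹` in an abstract twisted group of rank one (helper19's `TwData`):
an element of `G¹` centralising `a ∈ H`, `a² = 1`, has a normal form all of whose unipotent factors centralise `a`.
-/
import Cfsg.Agent.Lib.Helper19.ReeAbsA

set_option autoImplicit false

namespace Cfsg.Agent.Lib.Helper61.ReeInv

open Cfsg.Agent.Lib.Helper19.ReeAbs

variable {G : Type*} [Group G] (T : TwData G)

/-- A long element commutes with an involution of `H`. -/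
theorem long_comm_invol (a : G) (haH : a ∈ T.H) (ha2 : a * a = 1) (n : G) (hn : n ∈ T.N) (hl : T.L n) :
    a * n = n * a := by
  have h1 := T.long_inverts n hn hl a haH
  have h2 : a⁻¹ = a := inv_eq_of_mul_eq_one_left ha2
  rw [h2] at h1
  calc a * n = (n * a * n⁻¹) * n := by rw [h1]
    _ = n * a := by group

/-- Normal form of the elements of `G¹` centralising an involution `a` of `H`. -/
theorem centralizer_cases (a : G) (haH : a ∈ T.H) (ha2 : a * a = 1)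
    (n₀ : G) (hn₀ : n₀ ∈ T.N) (hn₀1 : n₀ ∈ T.G1) (hl₀ : T.L n₀)
    (x : G) (hx : x ∈ T.G1) (hc : a * x = x * a) :
    (∃ u ∈ T.U, ∃ h ∈ T.H, u ∈ T.G1 ∧ h ∈ T.G1 ∧ a * u = u * a ∧ x = u * h) ∨
    (∃ u₀ ∈ T.U, ∃ h ∈ T.H, ∃ u ∈ T.U, u₀ ∈ T.G1 ∧ h ∈ T.G1 ∧ u ∈ T.G1 ∧ a * u₀ = u₀ * a ∧ a * u = u * a ∧
      x = u₀ * h * n₀ * u) := by
  have hainv : a⁻¹ = a := inv_eq_of_mul_eq_one_left ha2
  rcases T.G1_cases n₀ hn₀ hn₀1 hl₀ x hx with hB | ⟨u₀, hu₀, h, hh, u, hu, g1, g2, g3, e⟩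
  · left
    obtain ⟨u, hu, h, hh, e, g1, g2⟩ := T.B1_factors' x hB hx
    refine ⟨u, hu, h, hh, g1, g2, ?_, e⟩
    -- a u h a⁻¹ = (a u a⁻¹) h
    have hah : a * h = h * a := T.H_comm a haH h hh
    have h1 : (a * u * a⁻¹) * h = u * h := by
      calc (a * u * a⁻¹) * h = a * u * (a⁻¹ * h) := by group
        _ = a * u * (h * a⁻¹) := by
            rw [hainv, hah]
        _ = (a * (u * h)) * a⁻¹ := by group
        _ = ((u * h) * a) * a⁻¹ := by rw [← e, hc]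
        _ = u * h := by group
    have h2 : a * u * a⁻¹ = u := mul_right_cancel h1
    calc a * u = (a * u * a⁻¹) * a := by group
      _ = u * a := by rw [h2]
  · right
    have hah : a * h = h * a := T.H_comm a haH h hh
    have han : a * n₀ = n₀ * a := long_comm_invol T a haH ha2 n₀ hn₀ hl₀
    have hhn : h * n₀ ∈ T.N := mul_mem (T.H_le_N hh) hn₀
    have hlong : T.L (h * n₀) := T.long_mul_H n₀ hn₀ hl₀ h hh
    have hUm : T.Um (h * n₀) = T.U := T.L_Um _ hhn hlong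
    have hu0' : a * u₀ * a⁻¹ ∈ T.U := T.H_norm_U a haH u₀ hu₀
    have hu' : a * u * a⁻¹ ∈ T.U := T.H_norm_U a haH u hu
    have key : (a * u₀ * a⁻¹) * (h * n₀) * (a * u * a⁻¹) = u₀ * (h * n₀) * u := by
      calc (a * u₀ * a⁻¹) * (h * n₀) * (a * u * a⁻¹)
          = a * u₀ * (a⁻¹ * h) * (n₀ * a) * u * a⁻¹ := by group
        _ = a * u₀ * (h * a⁻¹) * (a * n₀) * u * a⁻¹ := by
            rw [hainv, hah, han]
        _ = a * (u₀ * h * n₀ * u) * a⁻¹ := by group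
        _ = (u₀ * h * n₀ * u) * a * a⁻¹ := by rw [← e, hc]
        _ = u₀ * (h * n₀) * u := by group
    obtain ⟨k1, -, k3⟩ := T.uniq _ _ _ _ _ _ hu0' hu₀ hhn hhn (by rw [hUm]; exact hu') (by rw [hUm]; exact hu) key
    refine ⟨u₀, hu₀, h, hh, u, hu, g1, g2, g3, ?_, ?_, e⟩
    · calc a * u₀ = (a * u₀ * a⁻¹) * a := by group
        _ = u₀ * a := by rw [k1]
    · calc a * u = (a * u * a⁻¹) * a := by group
        _ = u * a := by rw [k3]

/-- If a subgroup `M` contains `H ∩ G¹`, a long element of `N ∩ G¹`, and the elements of `U ∩ G¹` centralising the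
involution `a ∈ H`, then it contains the centraliser of `a` in `G¹`. -/
theorem centralizer_le (a : G) (haH : a ∈ T.H) (ha2 : a * a = 1)
    (n₀ : G) (hn₀ : n₀ ∈ T.N) (hn₀1 : n₀ ∈ T.G1) (hl₀ : T.L n₀) (M : Subgroup G)
    (hH : ∀ h ∈ T.H, h ∈ T.G1 → h ∈ M) (hnM : n₀ ∈ M)
    (hU : ∀ u ∈ T.U, u ∈ T.G1 → a * u = u * a → u ∈ M)
    (x : G) (hx : x ∈ T.G1) (hc : a * x = x * a) : x ∈ M := by
  rcases centralizer_cases T a haH ha2 n₀ hn₀ hn₀1 hl₀ x hx hc with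
    ⟨u, hu, h, hh, g1, g2, c1, rfl⟩ | ⟨u₀, hu₀, h, hh, u, hu, g1, g2, g3, c1, c3, rfl⟩
  · exact mul_mem (hU u hu g1 c1) (hH h hh g2)
  · exact mul_mem (mul_mem (mul_mem (hU u₀ hu₀ g1 c1) (hH h hh g2)) hnM) (hU u hu g3 c3)

end Cfsg.Agent.Lib.Helper61.ReeInv
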