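/-
helper61: the quaternion group `Q₈ = ⟨w, s⟩` in `SL₂(K)`, `K` of characteristic three
(`w = [[0,1],[-1,0]]`, `s = [[1,1],[1,-1]]`), and an element `g` of order three normalising it.
-/
import Cfsg.Agent.Lib.Helper19.NatSL2

set_option autoImplicit false

namespace Cfsg.Agent.Lib.Helper61.ReeInv

open Cfsg.Agent.Lib.Helper19.NatSL2
open scoped MatrixGroups

universe u

variable {K : Type u} [Field K] [CharP K 3]

theorem three_eq_zero : (3 : K) = 0 := by
  have h := CharP.cast_eq_zero K 3
  exact_mod_cast h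

/-- The matrix `[[1,1],[1,-1]]` of determinant `-2 = 1`. -/
def ss : SL(2, K) := ⟨!![1, 1; 1, -1], by
  rw [Matrix.det_fin_two_of]
  linear_combination (-1 : K) * (three_eq_zero (K := K))⟩

@[simp] theorem ss_coe : ((ss : SL(2, K)) : Matrix (Fin 2) (Fin 2) K) = !![1, 1; 1, -1] := rfl

/-- The matrix `[[0,1],[-1,-1]]` of order three. -/
def gg : SL(2, K) := ⟨!![0, 1; -1, -1], by
  rw [Matrix.det_fin_two_of]
  ring⟩

omit [CharP K 3] in
@[simp] theorem gg_coe : ((gg : SL(2, K)) : Matrix (Fin 2) (Fin 2) K) = !![0, 1; -1, -1] := rfl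

theorem ss_sq : (ss : SL(2, K)) * ss = hh (-1) := by
  have h3 := three_eq_zero (K := K)
  apply Subtype.ext
  ext i j
  fin_cases i <;> fin_cases j <;> simp [Matrix.mul_apply, Fin.sum_univ_two] <;> linear_combination h3

theorem ss_ww : (ss : SL(2, K)) * ww = hh (-1) * (ww * ss) := by
  apply Subtype.ext
  ext i j
  fin_cases i <;> fin_cases j <;> simp [Matrix.mul_apply, Fin.sum_univ_two]

/-- `g w g⁻¹ = s`. -/
theorem gg_ww : (gg : SL(2, K)) * ww = ss * gg := by
  have h3 := three_eq_zero (K := K)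
  apply Subtype.ext
  ext i j
  fin_cases i <;> fin_cases j <;> simp [Matrix.mul_apply, Fin.sum_univ_two] <;>
    first | linear_combination h3 | linear_combination (-1 : K) * h3

/-- `g s g⁻¹ = w s`. -/
theorem gg_ss : (gg : SL(2, K)) * ss = (ww * ss) * gg := by
  have h3 := three_eq_zero (K := K)
  apply Subtype.ext
  ext i j
  fin_cases i <;> fin_cases j <;> simp [Matrix.mul_apply, Fin.sum_univ_two] <;>
    first | linear_combination h3 | linear_combination (-1 : K) * h3

end Cfsg.Agent.Lib.Helper61.ReeInv
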