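/-
helper61: a finite group whose order is `8 · odd` and which contains an elementary abelian 2-subgroup with at least five
elements has elementary abelian Sylow 2-subgroups of order 8.  Arithmetic for `|²G₂(q)|`.
-/
import Mathlib

set_option autoImplicit false

namespace Cfsg.Agent.Lib.Helper61.ReeInv

open scoped Pointwise

/-- The closure of a set of commuting involutions has exponent two. -/
theorem closure_exp_two {G : Type*} [Group G] (s : Set G) (hcomm : ∀ a ∈ s, ∀ b ∈ s, a * b = b * a)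
    (hsq : ∀ a ∈ s, a * a = 1) : ∀ x ∈ Subgroup.closure s, x * x = 1 := by
  have hcm : IsMulCommutative (Subgroup.closure s) := Subgroup.isMulCommutative_closure hcomm
  have hc : ∀ x ∈ Subgroup.closure s, ∀ y ∈ Subgroup.closure s, x * y = y * x := by
    intro x hx y hy
    have := hcm.is_comm.comm (⟨x, hx⟩ : Subgroup.closure s) ⟨y, hy⟩
    exact congrArg Subtype.val this
  intro x hx
  induction hx using Subgroup.closure_induction with
  | mem a ha => exact hsq a ha
  | one => exact mul_one 1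
  | mul x y hx hy ihx ihy =>
    calc x * y * (x * y) = x * (y * x) * y := by group
      _ = x * (x * y) * y := by rw [hc y hy x hx]
      _ = (x * x) * (y * y) := by group
      _ = 1 := by rw [ihx, ihy, mul_one]
  | inv x hx ihx =>
    have : x⁻¹ = x := inv_eq_of_mul_eq_one_left ihx
    rw [this, ihx]

/-- Five distinct elements in a subgroup. -/
theorem five_le_card {G : Type*} [Group G] [Finite G] (E : Subgroup G) (a b c d e : G)
    (ha : a ∈ E) (hb : b ∈ E) (hc : c ∈ E) (hd : d ∈ E) (he : e ∈ E)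
    (hab : a ≠ b) (hac : a ≠ c) (had : a ≠ d) (hae : a ≠ e) (hbc : b ≠ c) (hbd : b ≠ d) (hbe : b ≠ e)
    (hcd : c ≠ d) (hce : c ≠ e) (hde : d ≠ e) : 5 ≤ Nat.card E := by
  classical
  let f : Fin 5 → E := ![⟨a, ha⟩, ⟨b, hb⟩, ⟨c, hc⟩, ⟨d, hd⟩, ⟨e, he⟩]
  have hf : Function.Injective f := by
    intro i j hij
    have h := congrArg Subtype.val hij
    fin_cases i <;> fin_cases j <;> simp [f] at h ⊢ <;> first | exact absurd h ‹_› | exact absurd h.symm ‹_›
  have := Nat.card_le_card_of_injective f hf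
  simpa using this

/-- Sylow 2-subgroups of a group of order `8 · odd` containing a subgroup of exponent two with at least five elements. -/
theorem sylow_two_elementary {G : Type*} [Group G] [Finite G] (h8 : 8 ∣ Nat.card G) (h16 : ¬ 16 ∣ Nat.card G)
    (E : Subgroup G) (hE2 : ∀ x ∈ E, x * x = 1) (hE5 : 5 ≤ Nat.card E) (S : Sylow 2 G) :
    Nat.card S = 8 ∧ ∀ x ∈ S, x * x = 1 := by
  have : Fact (Nat.Prime 2) := ⟨Nat.prime_two⟩
  have hpos : Nat.card G ≠ 0 := Nat.card_pos.ne'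
  have hfac : (Nat.card G).factorization 2 = 3 := by
    have h1 : 3 ≤ (Nat.card G).factorization 2 :=
      (Nat.Prime.pow_dvd_iff_le_factorization Nat.prime_two hpos).mp (by norm_num; exact h8)
    have h2 : ¬ 4 ≤ (Nat.card G).factorization 2 := by
      intro h
      exact h16 (by have := (Nat.Prime.pow_dvd_iff_le_factorization Nat.prime_two hpos).mpr h; norm_num at this; exact this)
    omega
  have hcardS : ∀ P : Sylow 2 G, Nat.card P = 8 := by
    intro P
    rw [Sylow.card_eq_multiplicity, hfac]; norm_num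
  refine ⟨hcardS S, ?_⟩
  -- E is a 2-group
  have hEp : IsPGroup 2 E := by
    intro x
    refine ⟨1, ?_⟩
    rw [pow_one, pow_two]
    exact Subtype.ext (hE2 x.1 x.2)
  obtain ⟨P, hP⟩ := hEp.exists_le_sylow
  have hEP : E = (P : Subgroup G) := by
    have hdvd : Nat.card E ∣ Nat.card P := Subgroup.card_dvd_of_le hP
    rw [hcardS P] at hdvd
    have hE8 : Nat.card E = 8 := by
      have hmem : Nat.card E ∈ Nat.divisors 8 := Nat.mem_divisors.mpr ⟨hdvd, by norm_num⟩
      have hd : Nat.divisors 8 = {1, 2, 4, 8} := by decide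
      rw [hd] at hmem
      simp only [Finset.mem_insert, Finset.mem_singleton] at hmem
      rcases hmem with h | h | h | h
      · omega
      · omega
      · omega
      · exact h
    exact Subgroup.eq_of_le_of_card_ge hP (by rw [hE8, hcardS P])
  obtain ⟨g, hg⟩ := MulAction.exists_smul_eq G P S
  intro x hx
  rw [← hg] at hx
  have hx2 : x ∈ MulAut.conj g • (P : Subgroup G) := hx
  rw [Subgroup.mem_pointwise_smul_iff_inv_smul_mem] at hx2
  have hx' : g⁻¹ * x * g ∈ E := by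
    rw [hEP]
    simpa [MulAut.smul_def, MulAut.conj_apply] using hx2
  have h1 := hE2 _ hx'
  have : g⁻¹ * x * g * (g⁻¹ * x * g) = g⁻¹ * (x * x) * g := by group
  rw [this] at h1
  have : x * x = g * (g⁻¹ * (x * x) * g) * g⁻¹ := by group
  rw [this, h1]; group

/-- `|²G₂(q)| = 8 · odd`. -/
theorem ree_card_two_part (m : ℕ) :
    8 ∣ (3 ^ (2 * m + 1)) ^ 3 * (3 ^ (2 * m + 1) - 1) * ((3 ^ (2 * m + 1)) ^ 3 + 1) ∧
    ¬ 16 ∣ (3 ^ (2 * m + 1)) ^ 3 * (3 ^ (2 * m + 1) - 1) * ((3 ^ (2 * m + 1)) ^ 3 + 1) := by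
  obtain ⟨j, hj⟩ : ∃ j, 3 ^ (2 * m + 1) = 8 * j + 3 := by
    induction m with
    | zero => exact ⟨0, by norm_num⟩
    | succ k ih =>
      obtain ⟨j, hj⟩ := ih
      refine ⟨9 * j + 3, ?_⟩
      have : 3 ^ (2 * (k + 1) + 1) = 9 * 3 ^ (2 * k + 1) := by ring
      rw [this, hj]; ring
  rw [hj]
  have e1 : 8 * j + 3 - 1 = 2 * (4 * j + 1) := by omega
  have e2 : (8 * j + 3) ^ 3 + 1 = 4 * (2 * (64 * j ^ 3 + 72 * j ^ 2 + 27 * j + 3) + 1) := by ring
  rw [e1, e2]
  have e3 : (8 * j + 3) ^ 3 * (2 * (4 * j + 1)) * (4 * (2 * (64 * j ^ 3 + 72 * j ^ 2 + 27 * j + 3) + 1))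
      = 8 * ((8 * j + 3) ^ 3 * (4 * j + 1) * (2 * (64 * j ^ 3 + 72 * j ^ 2 + 27 * j + 3) + 1)) := by ring
  rw [e3]
  refine ⟨Dvd.intro _ rfl, ?_⟩
  intro h
  have h2 : 2 ∣ (8 * j + 3) ^ 3 * (4 * j + 1) * (2 * (64 * j ^ 3 + 72 * j ^ 2 + 27 * j + 3) + 1) := by
    have : (16 : ℕ) = 8 * 2 := by norm_num
    rw [this] at h
    exact (Nat.mul_dvd_mul_iff_left (by norm_num)).mp h
  have hodd : Odd ((8 * j + 3) ^ 3 * (4 * j + 1) * (2 * (64 * j ^ 3 + 72 * j ^ 2 + 27 * j + 3) + 1)) := by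
    apply Odd.mul
    · apply Odd.mul
      · apply Odd.pow
        exact ⟨4 * j + 1, by ring⟩
      · exact ⟨2 * j, by ring⟩
    · exact ⟨_, rfl⟩
  rw [← Nat.not_even_iff_odd] at hodd
  exact hodd (even_iff_two_dvd.mpr h2)

end Cfsg.Agent.Lib.Helper61.ReeInv
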