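/-
helper61: an elementary abelian subgroup of order eight of the small Ree group: `⟨h₀, Φ(w), Φ(s)⟩` with
`w = [[0,1],[-1,0]]`, `s = [[1,1],[1,-1]]` (characteristic three).
-/
import Cfsg.Agent.Lib.Helper61.Ree.InvIso
import Cfsg.Agent.Lib.Helper61.Ree.SylTwo
import Cfsg.Agent.Lib.Helper61.Ree.SL2Q8Defs

set_option autoImplicit false
set_option linter.unusedSectionVars false

namespace Cfsg.Agent.Lib.Helper61.ReeInv

open Cfsg.Lie Cfsg.Agent.Lib.Helper18 Cfsg.Agent.Lib.Helper17.SL2Pres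
open Cfsg.Agent.Lib.Helper19.NatSL2 Cfsg.Agent.Lib.Helper61.ChevJ.G2ReeH
open Cfsg.Agent.Lib.Helper61.Ree
open scoped MatrixGroups

universe u

variable {K : Type u} [Field K] [CharP K 3] (m : ℕ)

theorem Phi_hh_neg_one (hq : ∀ t : K, t ^ (3 * 3 ^ m * 3 ^ m) = t) : Phi m (hh (-1 : Kˣ)) = 1 :=
  (Phi_eq_one m hq _).mpr (Or.inr rfl)

theorem eW_sq (hq : ∀ t : K, t ^ (3 * 3 ^ m * 3 ^ m) = t) : Phi m (ww : SL(2, K)) * Phi m ww = 1 := by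
  rw [← map_mul, ww_ww, Phi_hh_neg_one m hq]

theorem eS_sq (hq : ∀ t : K, t ^ (3 * 3 ^ m * 3 ^ m) = t) : Phi m (ss : SL(2, K)) * Phi m ss = 1 := by
  rw [← map_mul, ss_sq, Phi_hh_neg_one m hq]

theorem eW_eS (hq : ∀ t : K, t ^ (3 * 3 ^ m * 3 ^ m) = t) :
    Phi m (ww : SL(2, K)) * Phi m ss = Phi m ss * Phi m ww := by
  rw [← map_mul (Phi m) ss ww, ss_ww, map_mul, Phi_hh_neg_one m hq, one_mul, map_mul]

omit [CharP K 3] in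
theorem neg_entry (B : SL(2, K)) (i j : Fin 2) :
    ((hh (-1 : Kˣ) * B : SL(2, K)) : Matrix (Fin 2) (Fin 2) K) i j = -(B : Matrix (Fin 2) (Fin 2) K) i j := by
  fin_cases i <;> fin_cases j <;> simp [Matrix.mul_apply, Fin.sum_univ_two]

/-- `Φ(A) ≠ Φ(B)` from entries. -/
theorem Phi_ne (hq : ∀ t : K, t ^ (3 * 3 ^ m * 3 ^ m) = t) (A B : SL(2, K)) (i j i' j' : Fin 2)
    (h1 : (A : Matrix (Fin 2) (Fin 2) K) i j ≠ (B : Matrix (Fin 2) (Fin 2) K) i j)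
    (h2 : (A : Matrix (Fin 2) (Fin 2) K) i' j' ≠ -(B : Matrix (Fin 2) (Fin 2) K) i' j') :
    Phi m A ≠ Phi m B := by
  intro h
  rcases (Phi_eq_iff m hq A B).mp h with rfl | rfl
  · exact h1 rfl
  · exact h2 (neg_entry B i' j')

theorem one_ne_neg_one : (1 : K) ≠ -1 := by
  intro h
  have h2 : (2 : K) = 0 := by linear_combination h
  exact two_ne_zero' h2

theorem eW_ne_one (hq : ∀ t : K, t ^ (3 * 3 ^ m * 3 ^ m) = t) : Phi m (ww : SL(2, K)) ≠ 1 := by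
  rw [← map_one (Phi (K := K) m)]
  refine Phi_ne m hq _ _ 0 0 0 0 ?_ ?_ <;> simp

theorem eS_ne_one (hq : ∀ t : K, t ^ (3 * 3 ^ m * 3 ^ m) = t) : Phi m (ss : SL(2, K)) ≠ 1 := by
  rw [← map_one (Phi (K := K) m)]
  refine Phi_ne m hq _ _ 0 1 0 1 ?_ ?_ <;> simp

theorem eWS_ne_one (hq : ∀ t : K, t ^ (3 * 3 ^ m * 3 ^ m) = t) : Phi m ((ww : SL(2, K)) * ss) ≠ 1 := by
  rw [← map_one (Phi (K := K) m)]
  refine Phi_ne m hq _ _ 0 1 0 1 ?_ ?_ <;> simp [Matrix.mul_apply, Fin.sum_univ_two]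

theorem eW_ne_eS (hq : ∀ t : K, t ^ (3 * 3 ^ m * 3 ^ m) = t) : Phi m (ww : SL(2, K)) ≠ Phi m ss := by
  refine Phi_ne m hq _ _ 0 0 0 0 ?_ ?_ <;> simp

theorem eW_ne_eWS (hq : ∀ t : K, t ^ (3 * 3 ^ m * 3 ^ m) = t) : Phi m (ww : SL(2, K)) ≠ Phi m (ww * ss) := by
  refine Phi_ne m hq _ _ 0 0 0 0 ?_ ?_ <;> simp [Matrix.mul_apply, Fin.sum_univ_two]

theorem eS_ne_eWS (hq : ∀ t : K, t ^ (3 * 3 ^ m * 3 ^ m) = t) : Phi m (ss : SL(2, K)) ≠ Phi m (ww * ss) := by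
  refine Phi_ne m hq _ _ 0 1 0 0 ?_ ?_ <;> simp [Matrix.mul_apply, Fin.sum_univ_two, one_ne_neg_one]

end Cfsg.Agent.Lib.Helper61.ReeInv
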