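/-
helper61: the centraliser of the involution of `H¹` in the small Ree group and its Sylow 2-subgroups, from a `TwData`
structure on `²G₂(q)` (helper19) and the order of `²G₂(q)`.
-/
import Cfsg.Agent.Lib.Helper61.Ree.InvAbs
import Cfsg.Agent.Lib.Helper61.Ree.InvSyl

set_option autoImplicit false
set_option linter.unusedSectionVars false

namespace Cfsg.Agent.Lib.Helper61.ReeInv

open Cfsg.Lie Cfsg.Agent.Lib.Helper18 Cfsg.Agent.Lib.Helper17.SL2Pres
open Cfsg.Agent.Lib.Helper19.NatSL2 Cfsg.Agent.Lib.Helper61.ChevJ.G2ReeH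
open Cfsg.Agent.Lib.Helper61.Ree Cfsg.Agent.Lib.Helper19.ReeAbs
open scoped MatrixGroups

universe u

variable {K : Type u} [Field K] [Fintype K] [CharP K 3] {m : ℕ}

/-- An involution of `H¹` is `h₀`. -/
theorem invol_eq_h0 (hK : Fintype.card K = 3 ^ (2 * m + 1)) (a : GL chevG2.Idx K)
    (haG : a ∈ twistedG2 K (3 ^ m)) (haH : a ∈ chevG2.diagonalSubgroup K) (ha1 : a ≠ 1) (ha2 : a * a = 1) :
    a = h0 := by
  have hq := hq_of_card hK
  obtain ⟨μ, rfl⟩ := (mem_Hsig_iff m hq a).mp (diag_twisted_le m hq ⟨haH, haG⟩)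
  have e : tor (μ ^ 3 ^ m) μ = reeH (3 ^ m) μ := rfl
  rw [e] at ha1 ha2 ⊢
  rw [← reeH_mul, ← reeH_one (3 ^ m)] at ha2
  have h2 : μ ^ 2 = 1 := by rw [pow_two]; exact reeH_injective _ ha2
  rcases units_sq_eq_one μ h2 with rfl | rfl
  · exact absurd (reeH_one _) ha1
  · exact (h0_eq_reeH m).symm

/-- The centraliser of `h₀` in `²G₂(q)` is `⟨h₀⟩ Φ(SL₂(K))`. -/
theorem cent_le_cSub (hK : Fintype.card K = 3 ^ (2 * m + 1)) (T : TwData (GL chevG2.Idx K))
    (hTU : T.U = chevG2.posUnipotent K) (hTH : T.H = chevG2.diagonalSubgroup K)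
    (hTN : T.N = chevG2.monomialSubgroup K) (hTG : T.G1 = twistedG2 K (3 ^ m))
    (x : GL chevG2.Idx K) (hx : x ∈ twistedG2 K (3 ^ m)) (hc : h0 * x = x * h0) : x ∈ cSub m K := by
  have hq := hq_of_card hK
  have h0H : (h0 : GL chevG2.Idx K) ∈ T.H := by
    rw [hTH, h0_eq_reeH m]; exact reeH_mem_H _ _
  have hnN : Phi m (ww : SL(2, K)) ∈ T.N := by rw [hTN]; exact Phi_ww_mem_N m
  have hnG : Phi m (ww : SL(2, K)) ∈ T.G1 := by rw [hTG]; exact Phi_mem_twisted m _
  have hnL : T.L (Phi m (ww : SL(2, K))) := by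
    rcases T.N1_cases _ hnN hnG with h | h
    · exfalso
      rw [hTH] at h
      exact Phi_ww_not_mem_B m (Subgroup.mem_sup_right h)
    · exact h
  refine centralizer_le T h0 h0H h0_sq _ hnN hnG hnL (cSub m K) ?_ ?_ ?_ x (by rw [hTG]; exact hx) hc
  · intro h hh hg
    rw [hTH] at hh
    rw [hTG] at hg
    exact H1_le_cSub hK ⟨hh, hg⟩
  · exact Subgroup.mem_sup_right ⟨_, rfl⟩
  · intro u hu hg hcu
    rw [hTU] at hu
    rw [hTG] at hg
    obtain ⟨t, rfl⟩ := cent_U1 hK u hu hg hcu
    exact Subgroup.mem_sup_right ⟨_, rfl⟩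

/-- The main theorem, from the rank-one structure and the order of `²G₂(q)`. -/
theorem main_of (hK : Fintype.card K = 3 ^ (2 * m + 1)) (T : TwData (GL chevG2.Idx K))
    (hTU : T.U = chevG2.posUnipotent K) (hTH : T.H = chevG2.diagonalSubgroup K)
    (hTN : T.N = chevG2.monomialSubgroup K) (hTG : T.G1 = twistedG2 K (3 ^ m))
    (hcard : Nat.card ↥(twistedG2 K (3 ^ m))
      = (3 ^ (2 * m + 1)) ^ 3 * (3 ^ (2 * m + 1) - 1) * ((3 ^ (2 * m + 1)) ^ 3 + 1))
    (a : ↥(twistedG2 K (3 ^ m))) (haH : (a : GL chevG2.Idx K) ∈ chevG2.diagonalSubgroup K) (ha1 : a ≠ 1)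
    (ha2 : a * a = 1) :
    Nonempty (↥(Subgroup.centralizer {a}) ≃* Multiplicative (ZMod 2) × Matrix.ProjectiveSpecialLinearGroup (Fin 2) K) ∧
      ∀ S : Sylow 2 ↥(twistedG2 K (3 ^ m)), Nat.card S = 8 ∧ ∀ x ∈ S, x * x = 1 := by
  have hq := hq_of_card hK
  have hav : (a : GL chevG2.Idx K) = h0 := by
    apply invol_eq_h0 hK _ a.2 haH
    · intro h; exact ha1 (Subtype.ext h)
    · have := congrArg Subtype.val ha2
      simpa using this
  have hiff : ∀ x : ↥(twistedG2 K (3 ^ m)), x ∈ Subgroup.centralizer {a} ↔ (x : GL chevG2.Idx K) ∈ cSub m K := by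
    intro x
    rw [Subgroup.mem_centralizer_singleton_iff]
    constructor
    · intro h
      have h' := congrArg Subtype.val h
      simp only [Subgroup.coe_mul, hav] at h'
      exact cent_le_cSub hK T hTU hTH hTN hTG _ x.2 h'.symm
    · intro h
      have h' := Subgroup.mem_centralizer_singleton_iff.mp (cSub_le_centralizer (m := m) h)
      apply Subtype.ext
      simp only [Subgroup.coe_mul, hav]
      exact h'
  constructor
  · obtain ⟨e⟩ := cSub_iso (K := K) m hq
    let e0 : ↥(Subgroup.centralizer {a}) ≃* ↥(cSub m K) :=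
      { toFun := fun x => ⟨x.1.1, (hiff x.1).mp x.2⟩
        invFun := fun y => ⟨⟨y.1, cSub_le_twisted hK y.2⟩, (hiff _).mpr y.2⟩
        left_inv := fun x => rfl
        right_inv := fun y => rfl
        map_mul' := fun x y => rfl }
    exact ⟨e0.trans e⟩
  · intro S
    obtain ⟨h8, h16⟩ := ree_card_two_part m
    rw [← hcard] at h8 h16
    -- the elementary abelian subgroup
    let w' : ↥(twistedG2 K (3 ^ m)) := ⟨Phi m (ww : SL(2, K)), Phi_mem_twisted m _⟩
    let s' : ↥(twistedG2 K (3 ^ m)) := ⟨Phi m (ss : SL(2, K)), Phi_mem_twisted m _⟩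
    have haw : a * w' = w' * a := Subtype.ext (by
      simp only [Subgroup.coe_mul, hav]; exact h0_comm_Phi m _)
    have has : a * s' = s' * a := Subtype.ext (by
      simp only [Subgroup.coe_mul, hav]; exact h0_comm_Phi m _)
    have hws : w' * s' = s' * w' := Subtype.ext (eW_eS m hq)
    have hw2 : w' * w' = 1 := Subtype.ext (eW_sq m hq)
    have hs2 : s' * s' = 1 := Subtype.ext (eS_sq m hq)
    let E : Subgroup ↥(twistedG2 K (3 ^ m)) := Subgroup.closure {a, w', s'}
    have hE2 : ∀ x ∈ E, x * x = 1 := by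
      apply closure_exp_two
      · intro x hx y hy
        simp only [Set.mem_insert_iff, Set.mem_singleton_iff] at hx hy
        rcases hx with rfl | rfl | rfl <;> rcases hy with rfl | rfl | rfl <;>
          first | rfl | exact haw | exact haw.symm | exact has | exact has.symm | exact hws | exact hws.symm
      · intro x hx
        simp only [Set.mem_insert_iff, Set.mem_singleton_iff] at hx
        rcases hx with rfl | rfl | rfl
        · exact ha2
        · exact hw2
        · exact hs2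
    have haE : a ∈ E := Subgroup.subset_closure (by simp)
    have hwE : w' ∈ E := Subgroup.subset_closure (by simp)
    have hsE : s' ∈ E := Subgroup.subset_closure (by simp)
    have hne : ∀ x y : ↥(twistedG2 K (3 ^ m)), (x : GL chevG2.Idx K) ≠ y → x ≠ y :=
      fun x y h h' => h (congrArg Subtype.val h')
    have hE5 : 5 ≤ Nat.card E := by
      refine five_le_card E 1 a w' s' (w' * s') (one_mem _) haE hwE hsE (mul_mem hwE hsE)
        (Ne.symm ha1) ?_ ?_ ?_ ?_ ?_ ?_ ?_ ?_ ?_
      · exact hne _ _ (Ne.symm (eW_ne_one m hq))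
      · exact hne _ _ (Ne.symm (eS_ne_one m hq))
      · apply hne
        show (1 : GL chevG2.Idx K) ≠ Phi m ww * Phi m ss
        rw [← map_mul]
        exact Ne.symm (eWS_ne_one m hq)
      · apply hne
        rw [hav]
        exact Ne.symm (Phi_ne_h0 m hq _)
      · apply hne
        rw [hav]
        exact Ne.symm (Phi_ne_h0 m hq _)
      · apply hne
        rw [hav]
        show (h0 : GL chevG2.Idx K) ≠ Phi m ww * Phi m ss
        rw [← map_mul]
        exact Ne.symm (Phi_ne_h0 m hq _)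
      · exact hne _ _ (eW_ne_eS m hq)
      · apply hne
        show Phi m ww ≠ Phi m ww * Phi m ss
        rw [← map_mul]
        exact eW_ne_eWS m hq
      · apply hne
        show Phi m ss ≠ Phi m ww * Phi m ss
        rw [← map_mul]
        exact eS_ne_eWS m hq
    exact sylow_two_elementary h8 h16 E hE2 hE5 S

end Cfsg.Agent.Lib.Helper61.ReeInv
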