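import Cfsg.Prelude.Def_ChevG2

set_option autoImplicit false

namespace Cfsg.Agent.Lib.Helper61.G2Seven

open Cfsg Cfsg.Lie Matrix

/-- The short roots of `G₂` (numbering of the Chevalley data module). -/
def shortR (n : ℕ) : Bool := decide (n ∈ [2, 3, 4, 7, 8, 9])

/-- The coordinates of the seven-dimensional submodule (characteristic three): `h_a` and the short root vectors. -/
def isS : chevG2.Idx → Prop
  | Sum.inl i => i.val = 0
  | Sum.inr u => shortR u.val = true

/-- Decidability of `isS`. -/
instance isS_decidable : DecidablePred isS := fun i =>
  match i with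
  | Sum.inl i => inferInstanceAs (Decidable (i.val = 0))
  | Sum.inr u => inferInstanceAs (Decidable (shortR u.val = true))

set_option maxRecDepth 100000 in
theorem fact1 : ∀ r < 12, shortR r = false → (3 : ℤ) ∣ (chevG2.cartanSR.getD 0 #[]).getD r 0 := by decide +kernel

set_option maxRecDepth 100000 in
theorem fact2 : ∀ r < 12, shortR (chevG2.negIdx.getD r 0) = true →
    shortR r = true ∧ (3 : ℤ) ∣ (chevG2.coroot.getD r #[]).getD 1 0 := by decide +kernel

set_option maxRecDepth 100000 in
set_option synthInstance.maxSize 2000 in
set_option synthInstance.maxHeartbeats 200000 in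
theorem fact3 : ∀ r < 12, ∀ s < 12, ∀ u < 12, shortR s = true → shortR u = false →
    ∀ km ∈ chevG2.chainCoeff r s u, (3 : ℤ) ∣ km.2 := by decide +kernel

variable {F : Type*} [Field F] [CharP F 3]

theorem cast_eq_zero_of_dvd {z : ℤ} (h : (3 : ℤ) ∣ z) : (z : F) = 0 :=
  (CharP.intCast_eq_zero_iff F 3 z).mpr (by exact_mod_cast h)

theorem sum_eq_zero_of_dvd (l : List (ℕ × ℤ)) (t : F) (h : ∀ km ∈ l, (3 : ℤ) ∣ km.2) :
    (l.map fun km => ((km.2 : ℤ) : F) * t ^ km.1).sum = 0 := by
  apply List.sum_eq_zero
  intro x hx
  obtain ⟨km, hkm, rfl⟩ := List.mem_map.mp hx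
  rw [cast_eq_zero_of_dvd (h km hkm), zero_mul]

/-- In characteristic three the root elements stabilise the coordinate subspace `isS`. -/
theorem xMat_isS (r : Fin chevG2.nroots) (t : F) (i j : chevG2.Idx) (hi : ¬ isS i) (hj : isS j) :
    chevG2.xMat F r t i j = 0 := by
  have hr : r.val < 12 := r.isLt
  rcases j with j | s
  · -- column h_j
    have hj0 : j.val = 0 := hj
    rcases i with i | u
    · have hi0 : i.val ≠ 0 := hi
      show (if i = j then (1 : F) else 0) = 0
      rw [if_neg]
      intro h
      exact hi0 (h ▸ hj0)
    · have hu : shortR u.val = false := by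
        have : ¬ (shortR u.val = true) := hi
        simpa using this
      show (if u = r then - (((chevG2.cartanSR.getD j.val #[]).getD r.val 0 : ℤ) : F) * t else 0) = 0
      split_ifs with hur
      · subst hur
        rw [hj0, cast_eq_zero_of_dvd (fact1 u.val hr hu), neg_zero, zero_mul]
      · rfl
  · -- column e_s
    have hs : shortR s.val = true := hj
    have hs12 : s.val < 12 := s.isLt
    by_cases hsr : s = r
    · subst hsr
      rcases i with i | u
      · simp [ChevalleyDatum.xMat]
      · have hu : ¬ (shortR u.val = true) := hi
        have hus : u ≠ s := by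
          rintro rfl
          exact hu hs
        simp [ChevalleyDatum.xMat, hus]
    · by_cases hsn : s.val = chevG2.negIdx.getD r.val 0
      · obtain ⟨f2a, f2b⟩ := fact2 r.val hr (hsn ▸ hs)
        rcases i with i | u
        · have hi0 : i.val ≠ 0 := hi
          have hi1 : i.val = 1 := by
            have := i.isLt
            have h2 : chevG2.rank = 2 := rfl
            omega
          have : chevG2.xMat F r t (Sum.inl i) (Sum.inr s)
              = (((chevG2.coroot.getD r.val #[]).getD i.val 0 : ℤ) : F) * t := by
            simp [ChevalleyDatum.xMat, hsr, hsn]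
          rw [this, hi1, cast_eq_zero_of_dvd f2b, zero_mul]
        · have hu : ¬ (shortR u.val = true) := hi
          have hus : u ≠ s := by
            rintro rfl
            exact hu hs
          have hur : u ≠ r := by
            rintro rfl
            exact hu f2a
          simp [ChevalleyDatum.xMat, hsr, hsn, hus, hur]
      · have hsn' : ¬ (s.val = (chevG2.negIdx[r.val]?).getD 0) := by simpa using hsn
        rcases i with i | u
        · simp [ChevalleyDatum.xMat, hsr, hsn']
        · have hu : shortR u.val = false := by
            have : ¬ (shortR u.val = true) := hi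
            simpa using this
          have hus : u ≠ s := by
            rintro rfl
            rw [hs] at hu
            exact Bool.noConfusion hu
          have h0 := sum_eq_zero_of_dvd (chevG2.chainCoeff r.val s.val u.val) t
            (fact3 r.val hr s.val hs12 u.val u.isLt hs hu)
          have : chevG2.xMat F r t (Sum.inr u) (Sum.inr s)
              = (if u = s then 1 else 0) +
                ((chevG2.chainCoeff r.val s.val u.val).map fun km => ((km.2 : ℤ) : F) * t ^ km.1).sum := by
            simp [ChevalleyDatum.xMat, hsr, hsn']
          rw [this, h0, if_neg hus, add_zero]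

end Cfsg.Agent.Lib.Helper61.G2Seven
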