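/-
helper61: `H¹ = H ∩ ²G₂(q)` is cyclic of order `q - 1`, isomorphic to `Kˣ` via `c ↦ h(c)`; its elements of odd order
act without fixed points on `U¹`.
-/
import Cfsg.Agent.Lib.Helper61.Ree.TwCard
import Cfsg.Agent.Lib.Helper61.Ree.HAct
import Cfsg.Agent.Lib.Helper61.ChevJ.G2ReeV

set_option autoImplicit false
set_option linter.unusedSectionVars false

namespace Cfsg.Agent.Lib.Helper61.ReeInv

open Cfsg.Lie Cfsg.Agent.Lib.Helper18 Cfsg.Agent.Lib.Helper91.Ree Cfsg.Agent.Lib.Helper43.Ree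
open Cfsg.Agent.Lib.Helper19.ReeAbs Cfsg.Agent.S1099 Cfsg.Agent.Lib.Helper61.Ree
open Cfsg.Agent.Lib.Helper61.ChevJ.G2ReeH

universe u

variable {K : Type u} [Field K] [Fintype K] [CharP K 3] {m : ℕ}

/-- `Kˣ ≅ H¹`. -/
theorem torus_equiv (hK : Fintype.card K = 3 ^ (2 * m + 1)) :
    ∃ e : Kˣ ≃* ↥(chevG2.diagonalSubgroup K ⊓ twistedG2 K (3 ^ m)),
      ∀ c, ((e c : ↥(chevG2.diagonalSubgroup K ⊓ twistedG2 K (3 ^ m))) : GL chevG2.Idx K) = reeH (3 ^ m) c := by
  have hq := hq_of_card' hK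
  exact (reeTw K m hq).torus_equiv (card_mod_four hK) (reeHHom (3 ^ m))
    (fun c => reeH_mem_H _ c) (fun c => reeH_mem_F m hq c)
    (fun h hh hF => reeH_surj m hq h hh hF) (reeH_injective _) h0_mem_twisted

/-- `H¹` is cyclic. -/
theorem isCyclic_H1 (hK : Fintype.card K = 3 ^ (2 * m + 1)) :
    IsCyclic ↥(chevG2.diagonalSubgroup K ⊓ twistedG2 K (3 ^ m)) := by
  obtain ⟨e, -⟩ := torus_equiv hK
  exact isCyclic_of_surjective e e.surjective

/-- Twice the number of elements of odd order of `H¹` is `q - 1`. -/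
theorem two_mul_card_odd (hK : Fintype.card K = 3 ^ (2 * m + 1)) :
    2 * Nat.card {h : ↥(chevG2.diagonalSubgroup K ⊓ twistedG2 K (3 ^ m)) // Odd (orderOf h)}
      = 3 ^ (2 * m + 1) - 1 := by
  obtain ⟨e, -⟩ := torus_equiv hK
  have h1 : Nat.card {h : ↥(chevG2.diagonalSubgroup K ⊓ twistedG2 K (3 ^ m)) // Odd (orderOf h)}
      = Nat.card {c : Kˣ // Odd (orderOf c)} := by
    apply Nat.card_congr
    exact (e.toEquiv.subtypeEquiv (fun c => by
      show Odd (orderOf c) ↔ Odd (orderOf (e c))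
      rw [MulEquiv.orderOf_eq])).symm
  rw [h1, two_mul_card_odd_units (card_mod_four hK), hK]

/-- A non-trivial element of odd order of `H¹` centralises no non-trivial element of `U¹`. -/
theorem odd_fpf (hK : Fintype.card K = 3 ^ (2 * m + 1)) (h : GL chevG2.Idx K)
    (hh : h ∈ chevG2.diagonalSubgroup K ⊓ twistedG2 K (3 ^ m)) (h1 : h ≠ 1) (hodd : Odd (orderOf h)) :
    (chevG2.posUnipotent K ⊓ twistedG2 K (3 ^ m)) ⊓ Subgroup.centralizer {h} = ⊥ := by
  have hq := hq_of_card' hK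
  obtain ⟨c, rfl⟩ := reeH_surj m hq h hh.1 (twistedG2_le_reeFix K m hq hh.2)
  rw [eq_bot_iff]
  rintro x ⟨hx, hxc⟩
  rw [Subgroup.mem_bot]
  obtain ⟨t, u, v, rfl⟩ := (Cfsg.Agent.Lib.Helper61.ChevJ.G2ReeV.U_twisted_iff hK x).mp hx
  have hcomm : reeH (3 ^ m) c * wordG hD2 (reeWordU (3 ^ m) t u v) * (reeH (3 ^ m) c)⁻¹
      = wordG hD2 (reeWordU (3 ^ m) t u v) := by
    have := Subgroup.mem_centralizer_singleton_iff.mp hxc
    rw [mul_inv_eq_iff_eq_mul]
    exact this.symm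
  by_contra hne
  have hne' : t ≠ 0 ∨ u ≠ 0 ∨ v ≠ 0 := by
    by_contra hall
    simp only [not_or, not_not] at hall
    obtain ⟨rfl, rfl, rfl⟩ := hall
    apply hne
    rw [Cfsg.Agent.Lib.Helper61.ChevJ.G2Char3.wordG_reeWordU]
    have : (0 : K) ^ 3 ^ m = 0 := zero_pow (pow_ne_zero _ (by norm_num))
    simp only [this]
    unfold Cfsg.Agent.Lib.Helper61.ChevJ.G2Char3.uu
    simp [xG_zero]
  have hc2 : c ^ 2 = 1 := reeH_cent_sq m hq c t u v hne' hcomm
  have hord : orderOf (reeH (3 ^ m) c) = orderOf c :=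
    orderOf_injective (reeHHom (3 ^ m)) (reeH_injective _) c
  rw [hord] at hodd
  have hdvd : orderOf c ∣ 2 := orderOf_dvd_of_pow_eq_one hc2
  have h1' : orderOf c = 1 := by
    rcases (Nat.dvd_prime Nat.prime_two).mp hdvd with h | h
    · exact h
    · rw [h] at hodd; exact absurd hodd (by decide)
  have : c = 1 := orderOf_eq_one_iff.mp h1'
  exact h1 (by rw [this, reeH_one])

end Cfsg.Agent.Lib.Helper61.ReeInv
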